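import Groth.Agent.RngSp.Maps
import Groth.Agent.ModTensor.FreeOn

/-!
# Stalks of colimits of modules on ringed spaces
-/

set_option autoImplicit false
set_option backward.isDefEq.respectTransparency false
set_option backward.isDefEq.respectTransparency.types false

universe u

open CategoryTheory CategoryTheory.Limits Opposite TopologicalSpace
open Groth.Agent.ClosedRinged Groth.Agent.ModPull

noncomputable section

namespace Groth.Agent.RngSp

variable {X : TopCat.{u}} {O : TopCat.Sheaf CommRingCat.{u} X}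

/-- The additive stalk functor. -/
abbrev stalkF (O : TopCat.Sheaf CommRingCat.{u} X) (x : X) : ModSite.Mod O ⥤ AddCommGrpCat.{u} :=
  SheafOfModules.toSheaf (ModSite.ringSh O) ⋙ (pt x).sheafFiber

theorem stalkF_gm {M N : ModSite.Mod O} (f : M ⟶ N) {U : Opens X} {x : X} (hx : x ∈ U) (z : M.val.obj (op U)) :
    (stalkF O x).map f (gm M hx z) = gm N hx (mp f U z) :=
  stalkMap_gm f hx z

theorem preservesColimits_stalkF (x : X) : PreservesColimitsOfSize.{u, u} (stalkF O x) :=
  haveI := ModTensor.preservesColimits_toSheaf O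
  haveI : PreservesColimitsOfSize.{u, u} ((pt x).sheafFiber (A := AddCommGrpCat.{u})) := inferInstance
  inferInstance

theorem gm_add {M : ModSite.Mod O} {U : Opens X} {x : X} (hx : x ∈ U) (z z' : M.val.obj (op U)) :
    gm M hx (z + z') = gm M hx z + gm M hx z' :=
  map_add ((pt x).toPresheafFiber U ⟨⟨hx⟩⟩ (ModSite.toAb M).obj).hom z z'

theorem gm_zero {M : ModSite.Mod O} {U : Opens X} {x : X} (hx : x ∈ U) : gm M hx (0 : M.val.obj (op U)) = 0 :=
  map_zero ((pt x).toPresheafFiber U ⟨⟨hx⟩⟩ (ModSite.toAb M).obj).hom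

theorem exists_gm_eq {M : ModSite.Mod O} {U W : Opens X} {x : X} (hx : x ∈ U) (hx' : x ∈ W)
    (z : M.val.obj (op U)) (z' : M.val.obj (op W)) (h : gm M hx z = gm M hx' z') :
    ∃ (V : Opens X) (h₁ : V ≤ U) (h₂ : V ≤ W), x ∈ V ∧ res M h₁ z = res M h₂ z' := by
  rw [← gm_res (inf_le_left : U ⊓ W ≤ U) ⟨hx, hx'⟩, ← gm_res (inf_le_right : U ⊓ W ≤ W) ⟨hx, hx'⟩ z',
    gm_eq_iff] at h
  obtain ⟨V, hV, hxV, he⟩ := h
  rw [res_res, res_res] at he
  exact ⟨V, _, _, hxV, he⟩

theorem exists_gm_of_isColimit {I : Type u} [Preorder I] [Nonempty I] [IsDirected I (· ≤ ·)]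
    {D : I ⥤ ModSite.Mod O} {c : Cocone D} (hc : IsColimit c) {U : Opens X} (z : c.pt.val.obj (op U)) :
    Nearby U fun V hV => ∃ i, ∃ m, mp (c.ι.app i) V m = res c.pt hV z := fun x hx => by
  haveI := preservesColimits_stalkF (O := O) x
  obtain ⟨i, a, ha⟩ := Types.jointly_surjective_of_isColimit
    (isColimitOfPreserves (stalkF O x ⋙ forget AddCommGrpCat.{u}) hc) (gm c.pt hx z)
  obtain ⟨V, hV, hxV, m, hm⟩ := exists_lift_of_stalk (c.ι.app i) hx z ⟨a, ha⟩
  exact ⟨V, hV, hxV, i, m, hm⟩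

theorem nearby_res_eq_zero_of_isColimit {I : Type u} [Preorder I] [Nonempty I] [IsDirected I (· ≤ ·)]
    {D : I ⥤ ModSite.Mod O} {c : Cocone D} (hc : IsColimit c) {i : I} {U : Opens X}
    (m : (D.obj i).val.obj (op U)) (h : mp (c.ι.app i) U m = 0) :
    Nearby U fun V hV => ∃ (j : I) (f : i ⟶ j), res (D.obj j) hV (mp (D.map f) U m) = 0 := fun x hx => by
  haveI := preservesColimits_stalkF (O := O) x
  have h0 : ((stalkF O x ⋙ forget AddCommGrpCat.{u}).mapCocone c).ι.app i (gm (D.obj i) hx m) =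
      ((stalkF O x ⋙ forget AddCommGrpCat.{u}).mapCocone c).ι.app i (0 : ModSite.stalkAb (pt x) (D.obj i)) := by
    change (stalkF O x).map (c.ι.app i) (gm (D.obj i) hx m) = (stalkF O x).map (c.ι.app i) 0
    rw [stalkF_gm, h, gm_zero]
    exact (map_zero _).symm
  obtain ⟨j, f, hf⟩ := (Types.FilteredColimit.isColimit_eq_iff'
    (isColimitOfPreserves (stalkF O x ⋙ forget AddCommGrpCat.{u}) hc) _ _).1 h0
  have hf' : (stalkF O x).map (D.map f) (gm (D.obj i) hx m) = (stalkF O x).map (D.map f) 0 := hf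
  rw [stalkF_gm, map_zero, ← gm_zero hx] at hf'
  obtain ⟨V, hV, hxV, he⟩ := (gm_eq_iff hx _ _).1 hf'
  rw [res_zero] at he
  exact ⟨V, hV, hxV, j, f, he⟩

variable {I : Type u} {F : I → ModSite.Mod O} [HasCoproduct F]

/-- A stalk element represented by a finite sum. -/
def IsFinSum (x : X) (e : (stalkF O x).obj (∐ F)) : Prop :=
  ∃ (W : Opens X) (hx : x ∈ W) (S : Finset I) (t : ∀ i, (F i).val.obj (op W)),
    gm (∐ F) hx (∑ i ∈ S, mp (Sigma.ι F i) W (t i)) = e

theorem nearby_finsum_coproduct {U : Opens X} (z : (∐ F).val.obj (op U)) :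
    Nearby U fun V hV => ∃ (S : Finset I) (t : ∀ i, (F i).val.obj (op V)),
      res (∐ F) hV z = ∑ i ∈ S, mp (Sigma.ι F i) V (t i) := fun x hx => by
  classical
  let A := (stalkF O x).obj (∐ F)
  let H : AddSubgroup A :=
    { carrier := {e | IsFinSum x e}
      zero_mem' := ⟨⊤, trivial, ∅, fun _ => 0, by rw [Finset.sum_empty]; exact gm_zero _⟩
      add_mem' := by
        rintro _ _ ⟨W, hW, S, t, rfl⟩ ⟨W', hW', S', t', rfl⟩
        refine ⟨W ⊓ W', ⟨hW, hW'⟩, S ∪ S', fun i => (if i ∈ S then res (F i) inf_le_left (t i) else 0) +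
          (if i ∈ S' then res (F i) inf_le_right (t' i) else 0), ?_⟩
        simp only [map_add, Finset.sum_add_distrib, apply_ite (mp (Sigma.ι F _) (W ⊓ W')), map_zero,
          ← Finset.sum_filter, gm_add]
        rw [show (S ∪ S').filter (· ∈ S) = S by ext; simp +contextual,
          show (S ∪ S').filter (· ∈ S') = S' by ext; simp +contextual]
        congr 1
        · rw [← gm_res (inf_le_left : W ⊓ W' ≤ W) ⟨hW, hW'⟩, res_sum]
          exact congrArg _ (Finset.sum_congr rfl fun i _ => mp_res _ _ _)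
        · rw [← gm_res (inf_le_right : W ⊓ W' ≤ W') ⟨hW, hW'⟩, res_sum]
          exact congrArg _ (Finset.sum_congr rfl fun i _ => mp_res _ _ _)
      neg_mem' := by
        rintro _ ⟨W, hW, S, t, rfl⟩
        refine ⟨W, hW, S, fun i => -t i, ?_⟩
        rw [eq_neg_iff_add_eq_zero, ← gm_add]
        simp only [map_neg, Finset.sum_neg_distrib, neg_add_cancel]
        exact gm_zero hW }
  haveI := preservesColimits_stalkF (O := O) x
  have hc := isColimitOfPreserves (stalkF O x) (coproductIsCoproduct F)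
  have h0 : AddCommGrpCat.ofHom (QuotientAddGroup.mk' H) = (0 : A ⟶ AddCommGrpCat.of (A ⧸ H)) := by
    refine hc.hom_ext fun ⟨i⟩ => ?_
    ext a
    obtain ⟨W, hW, m, rfl⟩ := exists_gm (M := F i) a
    refine (QuotientAddGroup.eq_zero_iff _).2 ⟨W, hW, {i}, Function.update (fun j => 0) i m, ?_⟩
    rw [Finset.sum_singleton, Function.update_self]
    exact (stalkF_gm (Sigma.ι F i) hW m).symm
  have hz : IsFinSum x (gm (∐ F) hx z) := (QuotientAddGroup.eq_zero_iff (N := H) _).1
    (congrArg (fun f : A ⟶ AddCommGrpCat.of (A ⧸ H) => f (gm (∐ F) hx z)) h0)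
  obtain ⟨W, hW, S, t, ht⟩ := hz
  obtain ⟨V, h₁, h₂, hxV, he⟩ := exists_gm_eq hW hx _ z ht
  refine ⟨V, h₂, hxV, S, fun i => res (F i) h₁ (t i), ?_⟩
  rw [← he, res_sum]
  exact Finset.sum_congr rfl fun i _ => (mp_res _ _ _).symm

end Groth.Agent.RngSp
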