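import Groth.Agent.RngSp.Glue
import Groth.Agent.RngSp.Stalks

/-!
# Morphisms out of finitely presented modules into directed colimits
-/

set_option autoImplicit false
set_option backward.isDefEq.respectTransparency false
set_option backward.isDefEq.respectTransparency.types false

universe u

open CategoryTheory CategoryTheory.Limits Opposite TopologicalSpace
open Groth.Agent.ClosedRinged

noncomputable section

namespace Groth.Agent.RngSp

variable {X : TopCat.{u}} {O : TopCat.Sheaf CommRingCat.{u} X} {I : Type u} [Preorder I] [Nonempty I]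
  [IsDirected I (· ≤ ·)] {D : I ⥤ ModSite.Mod O} {c : Cocone D}

/-- The cocone maps, with target the point. -/
abbrev cι (c : Cocone D) (i : I) : D.obj i ⟶ c.pt := c.ι.app i

theorem mp_map_map {i j k : I} (h : i ≤ j) (h' : j ≤ k) {U : Opens X} (z : (D.obj i).val.obj (op U)) :
    mp (D.map (homOfLE h')) U (mp (D.map (homOfLE h)) U z) = mp (D.map (homOfLE (h.trans h'))) U z :=
  congrArg (fun f : D.obj i ⟶ D.obj k => mp f U z)
    (D.map_comp (homOfLE h) (homOfLE h')).symm

theorem mp_ι_map {i j : I} (h : i ≤ j) {U : Opens X} (z : (D.obj i).val.obj (op U)) :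
    mp (cι c j) U (mp (D.map (homOfLE h)) U z) = mp (cι c i) U z :=
  congrArg (fun f : D.obj i ⟶ c.pt => mp f U z) (c.w (homOfLE h))

/-- Sections vanishing in the colimit vanish nearby at a common later stage. -/
theorem nearby_forall_eq_zero (hc : IsColimit c) {κ : Type*} [Finite κ] {i : I} {U : Opens X}
    (d : κ → (D.obj i).val.obj (op U)) (hd : ∀ k, mp (cι c i) U (d k) = 0) :
    Nearby U fun V hV => ∃ (j : I) (h : i ≤ j), ∀ k, res (D.obj j) hV (mp (D.map (homOfLE h)) U (d k)) = 0 := by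
  intro x hx
  obtain ⟨V, hV, hxV, he⟩ := nearby_forall hx
    (P := fun k V hV => ∃ (j : I) (h : i ≤ j), res (D.obj j) hV (mp (D.map (homOfLE h)) U (d k)) = 0)
    (fun k V V' hV h' ⟨j, h, e⟩ => ⟨j, h, by rw [← res_res _ hV h', e, res_zero]⟩)
    (fun k => by
      obtain ⟨V, hV, hxV, j, f, e⟩ := nearby_res_eq_zero_of_isColimit hc (d k) (hd k) x hx
      exact ⟨V, hV, hxV, j, f.le, e⟩)
  choose j hj he using he
  obtain ⟨j₀, hj₀⟩ := Finite.exists_le j
  obtain ⟨j₁, hi₁, hj₁⟩ := directed_of (· ≤ ·) i j₀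
  refine ⟨V, hV, hxV, j₁, hi₁, fun k => ?_⟩
  rw [← mp_map_map (hj k) ((hj₀ k).trans hj₁), ← mp_res, he, map_zero]

variable {G : ModSite.Mod O} [SheafOfModules.IsFinitePresentation (R := ModSite.ringSh O) G]

theorem exists_map_eq (hc : IsColimit c) [CompactSpace X] {i : I} (φ ψ : G ⟶ D.obj i)
    (h : φ ≫ cι c i = ψ ≫ cι c i) : ∃ (k : I) (f : i ⟶ k), φ ≫ D.map f = ψ ≫ D.map f := by
  have key : ∀ x : X, ∃ (U : Opens X) (ι : Type u) (_ : Fintype ι) (t : ι → G.val.obj (op U)) (j : I)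
      (h : i ≤ j), x ∈ U ∧ GenOn G U t ∧
      ∀ k, mp (D.map (homOfLE h)) U (mp φ U (t k)) = mp (D.map (homOfLE h)) U (mp ψ U (t k)) := by
    intro x
    obtain ⟨U, ι, κ, hι, hκ, t, r, hxU, ht, -⟩ := isFinitePresentation_iff.1
      ‹SheafOfModules.IsFinitePresentation (R := ModSite.ringSh O) G› x
    obtain ⟨V, hV, hxV, j, hj, he⟩ := nearby_forall_eq_zero hc (fun k => mp φ U (t k) - mp ψ U (t k))
      (fun k => by
        rw [map_sub, sub_eq_zero]
        exact congrArg (fun f : G ⟶ c.pt => mp f U (t k)) h) x hxU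
    refine ⟨V, ι, hι, fun k => res G hV (t k), j, hj, hxV, ht.mono hV, fun k => ?_⟩
    have := he k
    rw [← mp_res, res_sub, map_sub, sub_eq_zero, ← mp_res, ← mp_res] at this
    exact this
  choose U ι hι t j hj hxU ht he using key
  obtain ⟨T, hT⟩ := isCompact_univ.elim_finite_subcover (fun x => (U x : Set X)) (fun x => (U x).2)
    (fun x _ => Set.mem_iUnion.2 ⟨x, hxU x⟩)
  obtain ⟨k₀, hk₀⟩ := Finite.exists_le (fun x : T => j x)
  obtain ⟨k, hik, hk⟩ := directed_of (· ≤ ·) i k₀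
  refine ⟨k, homOfLE hik, hom_ext_of_cover (fun x : T => U x) (fun y => ?_) (fun x => t x) (fun x => ht x) _ _
    fun x p => ?_⟩
  · obtain ⟨x, hxT, hy⟩ := Set.mem_iUnion₂.1 (hT (Set.mem_univ y))
    exact ⟨⟨x, hxT⟩, hy⟩
  · have := congrArg (mp (D.map (homOfLE ((hk₀ x).trans hk))) (U x)) (he x p)
    rw [mp_map_map, mp_map_map] at this
    exact this

theorem exists_local_lift (hc : IsColimit c) (φ : G ⟶ c.pt) (x : X) :
    ∃ (U : Opens X) (ι : Type u) (_ : Fintype ι) (t : ι → G.val.obj (op U)) (i : I)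
      (m : ι → (D.obj i).val.obj (op U)), x ∈ U ∧ GenOn G U t ∧ (∀ k, mp (cι c i) U (m k) = mp φ U (t k)) ∧
      ∀ (W : Opens X) (h : W ≤ U) (a : ι → fns O W), comb a (fun k => res G h (t k)) = 0 →
        comb a (fun k => res (D.obj i) h (m k)) = 0 := by
  obtain ⟨U, ι, κ, hι, hκ, t, r, hxU, ht, hr⟩ := isFinitePresentation_iff.1
    ‹SheafOfModules.IsFinitePresentation (R := ModSite.ringSh O) G› x
  haveI := hκ
  haveI := Fintype.ofFinite κ
  obtain ⟨V, hV, hxV, hl⟩ := nearby_forall hxU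
    (P := fun k V hV => ∃ i, ∃ m, mp (cι c i) V m = res c.pt hV (mp φ U (t k)))
    (fun k V V' hV h' ⟨i, m, hm⟩ => ⟨i, res (D.obj i) h' m, by rw [mp_res, hm]; exact res_res c.pt _ _ _⟩)
    fun k => exists_gm_of_isColimit hc (mp φ U (t k)) x hxU
  choose i m hm using hl
  obtain ⟨i₀, hi₀⟩ := Finite.exists_le i
  let m₀ : ι → (D.obj i₀).val.obj (op V) := fun k => mp (D.map (homOfLE (hi₀ k))) V (m k)
  have hm₀ : ∀ k, mp (cι c i₀) V (m₀ k) = mp φ V (res G hV (t k)) := fun k => by
    rw [mp_ι_map, hm, mp_res]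
  obtain ⟨T, hT, hxT, j, hj, he⟩ := nearby_forall_eq_zero hc
    (fun l => comb (fun k => resO O hV (r l k)) m₀) (fun l => by
      rw [mp_comb, funext hm₀, ← mp_comb, comb, ← res_comb, hr.1 l, res_zero]
      exact map_zero _) x hxV
  refine ⟨T, ι, hι, fun k => res G (hT.trans hV) (t k), j, fun k => res (D.obj j) hT (mp (D.map (homOfLE hj)) V (m₀ k)),
    hxT, ht.mono _, fun k => ?_, fun W hW a ha => ?_⟩
  · rw [mp_res, mp_ι_map, hm₀, ← mp_res]
    exact congrArg (mp φ T) (res_res G hV hT (t k))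
  · simp only [res_res] at ha ⊢
    refine ClosedRinged.ext_locally (D.obj j) _ _ fun y hy => ?_
    obtain ⟨W', hW', hy', hs⟩ := hr.2 W (hW.trans (hT.trans hV)) a ha y hy
    refine ⟨W', hW', hy', ?_⟩
    rw [res_comb', res_zero]
    simp only [res_res]
    obtain ⟨b, hb⟩ := (Submodule.mem_span_range_iff_exists_fun _).1 hs
    rw [← hb]
    have hl : ∀ l, comb (fun k => resO O ((hW'.trans hW).trans (hT.trans hV)) (r l k))
        (fun k => res (D.obj j) ((hW'.trans hW).trans hT) (mp (D.map (homOfLE hj)) V (m₀ k))) = 0 := fun l => by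
      have h1 := congrArg (res (D.obj j) (hW'.trans hW)) (he l)
      rw [res_res, res_zero, mp_comb, res_comb'] at h1
      simp only [resO_resO] at h1
      exact h1
    simp only [comb, Finset.sum_apply, Pi.smul_apply, smul_eq_mul, Finset.sum_smul, mul_smul]
    rw [Finset.sum_comm]
    refine Finset.sum_eq_zero fun l _ => ?_
    rw [← Finset.smul_sum]
    exact (congrArg (b l • ·) (hl l)).trans (smul_zero _)

theorem exists_factor (hc : IsColimit c)
    (hX : ∀ (ι : Type u) (V : ι → Opens X), iSup V = ⊤ → ∃ (J : Type u) (_ : Finite J) (U : J → Opens X),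
      iSup U = ⊤ ∧ (∀ j, ∃ i, U j ≤ V i) ∧ ∀ j j', IsCompact ((U j ⊓ U j' : Opens X) : Set X))
    (φ : G ⟶ c.pt) : ∃ (i : I) (f : G ⟶ D.obj i), f ≫ cι c i = φ := by
  choose V ι hι t i m hxV ht hm hrel using exists_local_lift hc φ
  obtain ⟨J, hJ, U, hU, hle, hcpt⟩ := hX X V (eq_top_iff.2 fun x _ => Opens.mem_iSup.2 ⟨x, hxV x⟩)
  choose p hp using hle
  obtain ⟨i₀, hi₀⟩ := Finite.exists_le (fun j => i (p j))
  let m₀ : ∀ j, ι (p j) → (D.obj i₀).val.obj (op (U j)) := fun j q =>
    mp (D.map (homOfLE (hi₀ j))) (U j) (res _ (hp j) (m (p j) q))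
  let t₀ : ∀ j, ι (p j) → G.val.obj (op (U j)) := fun j q => res G (hp j) (t (p j) q)
  letI : ∀ j, Fintype (ι (p j)) := fun j => hι (p j)
  have ht₀ : ∀ j, GenOn G (U j) (t₀ j) := fun j => (ht (p j)).mono (hp j)
  have hcov : ∀ x, ∃ j, x ∈ U j := fun x => Opens.mem_iSup.1 (hU.ge (Set.mem_univ x))
  have hm₀ : ∀ j q, mp (cι c i₀) (U j) (m₀ j q) = mp φ (U j) (t₀ j q) := fun j q => by
    rw [mp_ι_map, mp_res, hm]
    exact (mp_res φ _ _).symm
  -- compatibility on overlaps at a later stage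
  have hov : ∀ jl : J × J, ∃ (k : I) (h : i₀ ≤ k), Compat U t₀
      (fun j q => mp (D.map (homOfLE h)) (U j) (m₀ j q)) jl.1 jl.2 := by
    rintro ⟨j, l⟩
    have key : ∀ y : (U j ⊓ U l : Opens X), ∃ (W : Opens X) (hW : W ≤ U j ⊓ U l) (a : ι (p j) → ι (p l) → fns O W)
        (k : I) (h : i₀ ≤ k), y.1 ∈ W ∧ ∀ q,
          res G (hW.trans inf_le_left) (t₀ j q) = comb (a q) (fun s => res G (hW.trans inf_le_right) (t₀ l s)) ∧
          res (D.obj k) (hW.trans inf_le_left) (mp (D.map (homOfLE h)) (U j) (m₀ j q)) =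
            comb (a q) (fun s => res (D.obj k) (hW.trans inf_le_right) (mp (D.map (homOfLE h)) (U l) (m₀ l s))) := by
      rintro ⟨y, hy⟩
      obtain ⟨W, hW, hyW, ha⟩ := nearby_forall hy
        (P := fun q W hW => ∃ a : ι (p l) → fns O W,
          res G (hW.trans inf_le_left) (t₀ j q) = comb a (fun s => res G (hW.trans inf_le_right) (t₀ l s)))
        (fun q W W' hW h' ⟨a, ha⟩ => ⟨_, by
          have := congrArg (res G h') ha
          rw [res_comb'] at this
          simpa only [res_res] using this⟩)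
        fun q => by
          obtain ⟨W, hW, hyW, a, ha⟩ := (ht₀ l).exists_sum (inf_le_right : U j ⊓ U l ≤ U l)
            (res G inf_le_left (t₀ j q)) y hy
          exact ⟨W, hW, hyW, a, ((ha.trans (res_res G _ _ _))).symm⟩
      choose a ha using ha
      obtain ⟨W', hW', hyW', k, hk, he⟩ := nearby_forall_eq_zero hc
        (fun q => res (D.obj i₀) (hW.trans inf_le_left) (m₀ j q) -
          comb (a q) (fun s => res (D.obj i₀) (hW.trans inf_le_right) (m₀ l s)))
        (fun q => by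
          rw [map_sub, mp_comb, sub_eq_zero, mp_res, hm₀, ← mp_res, ha, mp_comb]
          exact congrArg (comb (a q)) (funext fun s => by
            rw [mp_res φ, ← hm₀, ← mp_res])) y hyW
      refine ⟨W', hW'.trans hW, fun q s => resO O hW' (a q s), k, hk, hyW', fun q => ⟨?_, ?_⟩⟩
      · have := congrArg (res G hW') (ha q)
        rw [res_comb'] at this
        simpa only [res_res] using this
      · have := he q
        rw [map_sub, res_sub, sub_eq_zero, mp_comb, res_comb'] at this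
        simp only [mp_res, res_res] at this
        exact this
    choose W hW a k hk hyW he using key
    obtain ⟨T, hT⟩ := (hcpt j l).elim_finite_subcover (fun y => (W y : Set X)) (fun y => (W y).2)
      (fun y hy => Set.mem_iUnion.2 ⟨⟨y, hy⟩, hyW ⟨y, hy⟩⟩)
    obtain ⟨k₀, hk₀⟩ := Finite.exists_le (fun y : T => k y)
    obtain ⟨k₁, hi₁, hk₁⟩ := directed_of (· ≤ ·) i₀ k₀
    refine ⟨k₁, hi₁, fun y hy => ?_⟩
    obtain ⟨y', hy'T, hy'⟩ := Set.mem_iUnion₂.1 (hT hy)
    refine ⟨W y', hW y', hy', a y', fun q => ⟨(he y' q).1, ?_⟩⟩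
    have := congrArg (mp (D.map (homOfLE ((hk₀ ⟨y', hy'T⟩).trans hk₁))) (W y')) (he y' q).2
    rw [mp_comb] at this
    simp only [mp_res, mp_map_map] at this
    exact this
  choose k hk hcompat using hov
  obtain ⟨k₀, hk₀⟩ := Finite.exists_le k
  obtain ⟨k₁, hik, hkk⟩ := directed_of (· ≤ ·) i₀ k₀
  let M : ∀ j, ι (p j) → (D.obj k₁).val.obj (op (U j)) := fun j q => mp (D.map (homOfLE hik)) (U j) (m₀ j q)
  obtain ⟨f, hf⟩ := exists_hom (U := U) (t := t₀) (m := M) hcov ht₀ (fun j W hW b hb => by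
      simp only [M, m₀, ← mp_res, ← mp_comb, mp_map_map]
      simp only [t₀, res_res] at hb
      simp only [res_res]
      rw [hrel (p j) W (hW.trans (hp j)) b (by convert hb), map_zero]) (fun j l y hy => by
      obtain ⟨W, hW, hyW, a, ha⟩ := hcompat (j, l) y hy
      refine ⟨W, hW, hyW, a, fun q => ⟨(ha q).1, ?_⟩⟩
      have := congrArg (mp (D.map (homOfLE ((hk₀ (j, l)).trans hkk))) W) (ha q).2
      rw [mp_comb] at this
      simp only [mp_res, mp_map_map] at this
      exact this)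
  refine ⟨k₁, f, hom_ext_of_cover U hcov t₀ ht₀ _ _ fun j q => ?_⟩
  change mp (cι c k₁) (U j) (mp f (U j) (t₀ j q)) = _
  rw [hf, mp_ι_map, hm₀]

end Groth.Agent.RngSp
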