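import Groth.Agent.RngSp.Stalks
import Groth.Agent.H9Misc.RestrExt
import Mathlib.Algebra.Category.ModuleCat.Sheaf.LocallyFree

/-!
# Arbitrary families of generating sections on ringed spaces
-/

set_option autoImplicit false
set_option backward.isDefEq.respectTransparency false
set_option backward.isDefEq.respectTransparency.types false

universe u

open CategoryTheory CategoryTheory.Limits Opposite TopologicalSpace
open Groth.Agent.ClosedRinged Groth.Agent.ModPull

noncomputable section

namespace Groth.Agent.RngSp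

variable {X : TopCat.{u}} {O : TopCat.Sheaf CommRingCat.{u} X} {M : ModSite.Mod O}

theorem preservesColimits_restr (U : Opens X) :
    PreservesColimitsOfSize.{u, u} (ModSite.restr O U) :=
  inferInstanceAs (PreservesColimitsOfSize.{u, u} (SheafOfModules.pushforward.{u} (𝟙 ((ModSite.ringSh O).over U))))

variable (O) in
/-- Free modules restrict to free modules. -/
def freeRestrIso (U : Opens X) (ι : Type u) :
    SheafOfModules.free (R := ModSite.ringSh (O.over U)) ι ≅
      (ModSite.restr O U).obj (SheafOfModules.free (R := ModSite.ringSh O) ι) :=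
  haveI := preservesColimits_restr (O := O) U
  SheafOfModules.mapFreeIso (ModSite.restr O U) ι (Iso.refl _)

/-- Sections of a free module over an open are locally finite sums. -/
theorem free_nearby_sum {U : Opens X} (ι : Type u) (A : Over U)
    (y : (SheafOfModules.free (R := ModSite.ringSh (O.over U)) ι).val.obj (op A)) :
    Nearby A.left fun V hV => ∃ (S : Finset ι) (a : ι → fns O V),
      rsM (SheafOfModules.free (R := ModSite.ringSh (O.over U)) ι)
          (Over.homMk (U := Over.mk (homOfLE hV ≫ A.hom)) (homOfLE hV) rfl) y =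
        ∑ i ∈ S, (a i : rO (O.over U) (op (Over.mk (homOfLE hV ≫ A.hom)))) •
          (SheafOfModules.freeSection (R := ModSite.ringSh (O.over U)) i).eval _ := by
  intro x hx
  let e := freeRestrIso O U ι
  obtain ⟨V, hV, hxV, S, a, ha⟩ := nearby_finsum_coproduct
    (F := fun _ : ι => SheafOfModules.unit (ModSite.ringSh O)) (e.hom.val.app (op A) y) x hx
  refine ⟨V, hV, hxV, S, a, ?_⟩
  let B : Over U := Over.mk (homOfLE hV ≫ A.hom)
  let g : B ⟶ A := Over.homMk (homOfLE hV) rfl
  have hiso : ∀ w, e.inv.val.app (op B) (e.hom.val.app (op B) w) = w := fun w =>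
    congrArg (fun k : _ ⟶ SheafOfModules.free (R := ModSite.ringSh (O.over U)) ι => k.val.app (op B) w) e.hom_inv_id
  rw [← hiso (rsM _ g y)]
  have h1 : e.hom.val.app (op B) (rsM _ g y) =
      res (∐ fun _ : ι => SheafOfModules.unit (ModSite.ringSh O)) hV (e.hom.val.app (op A) y) :=
    PresheafOfModules.naturality_apply e.hom.val g.op y
  rw [h1, ha]
  refine (map_sum (e.inv.val.app (op B)).hom _ S).trans (Finset.sum_congr rfl fun i _ => ?_)
  have h2 : (ModSite.restr O U).map (SheafOfModules.ιFree (R := ModSite.ringSh O) i) ≫ e.inv =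
      SheafOfModules.ιFree i :=
    (SheafOfModules.map_ιFree_mapFreeIso_inv (ModSite.restr O U) ι (Iso.refl _) i).trans (Category.id_comp _)
  refine (congrArg (fun k : SheafOfModules.unit (ModSite.ringSh (O.over U)) ⟶
    SheafOfModules.free (R := ModSite.ringSh (O.over U)) ι => k.val.app (op B) (a i)) h2).trans ?_
  exact ιFree_app (O := O.over U) (X := op B) i (a i)

theorem genOn_of_generatingSections' {U : Opens X} (σ : ((ModSite.restr O U).obj M).GeneratingSections) :
    GenOn M U fun i => (σ.s i).eval (op (Over.mk (𝟙 U))) := by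
  intro V hV z x hx
  let A : Over U := Over.mk (homOfLE hV)
  haveI := σ.epi
  obtain ⟨S, hS, hz⟩ := FDescent.exists_cover_eq_app σ.π A z
  obtain ⟨W, hW, hxW, y, hy⟩ := nearby_of_locally (W := A) (P := fun B g => ∃ y, σ.π.val.app (op B) y =
    ((ModSite.restr O U).obj M).val.map g.op (show ((ModSite.restr O U).obj M).val.obj (op A) from z))
    ⟨S, hS, fun B g hg => hz g hg⟩ x hx
  obtain ⟨W', hW', hxW', T, a, ha⟩ := free_nearby_sum σ.I (Over.mk (homOfLE hW ≫ A.hom)) y x hxW
  refine ⟨W', hW'.trans hW, hxW', ?_⟩
  let B : Over U := Over.mk (homOfLE hW' ≫ (homOfLE hW ≫ A.hom))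
  have h1 := congrArg (σ.π.val.app (op B)) ha
  rw [map_sum] at h1
  have h2 : σ.π.val.app (op B) (rsM _ (Over.homMk (U := B) (homOfLE hW') rfl :
      B ⟶ Over.mk (homOfLE hW ≫ A.hom)) y) = res M (hW'.trans hW) z := by
    refine (PresheafOfModules.naturality_apply σ.π.val _ y).trans ?_
    rw [hy]
    exact res_res M hW hW' z
  show res M (hW'.trans hW) z ∈ _
  rw [(h2.symm.trans h1 :)]
  refine Submodule.sum_mem _ fun i _ => ?_
  rw [map_smul]
  refine Submodule.smul_mem _ _ (Submodule.subset_span ⟨i, ?_⟩)
  refine Eq.trans ?_ (app_freeSection (O := O.over U) σ.s i (op B)).symm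
  exact (sections_eval (σ.s i) B).symm

theorem exists_genOn_of_localGeneratorsData (σ : SheafOfModules.LocalGeneratorsData.{u} (R := ModSite.ringSh O) M)
    (x : X) : ∃ (U : Opens X) (ι : Type u) (t : ι → M.val.obj (op U)), x ∈ U ∧ GenOn M U t := by
  obtain ⟨i, hi⟩ := exists_mem_of_coversTop σ.coversTop x
  exact ⟨σ.X i, _, _, hi, genOn_of_generatingSections' (σ.generators i)⟩

theorem nonempty_localGeneratorsData
    (h : ∀ x : X, ∃ (U : Opens X) (ι : Type u) (t : ι → M.val.obj (op U)), x ∈ U ∧ GenOn M U t) :
    Nonempty (SheafOfModules.LocalGeneratorsData.{u} (R := ModSite.ringSh O) M) := by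
  choose U ι t hx ht using h
  exact ⟨{ I := X, X := U, coversTop := coversTop_of_forall fun x => ⟨x, hx x⟩
           generators := fun x => ((gens_secOver_iff _).2 (ht x)).generatingSections }⟩

end Groth.Agent.RngSp
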