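import Groth.Agent.RngSp.Free

/-!
# Maps out of modules given by generators and relations on a cover
-/

set_option autoImplicit false
set_option backward.isDefEq.respectTransparency false
set_option backward.isDefEq.respectTransparency.types false

universe u

open CategoryTheory CategoryTheory.Limits Opposite TopologicalSpace
open Groth.Agent.ClosedRinged
open scoped Matrix

noncomputable section

namespace Groth.Agent.RngSp

variable {X : TopCat.{u}} {O : TopCat.Sheaf CommRingCat.{u} X} {G N : ModSite.Mod O}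

theorem hom_ext_of_cover {J : Type*} (U : J → Opens X) (hU : ∀ x, ∃ j, x ∈ U j) {ι : J → Type u}
    [∀ j, Fintype (ι j)] (t : ∀ j, ι j → G.val.obj (op (U j))) (ht : ∀ j, GenOn G (U j) (t j))
    (f g : G ⟶ N) (h : ∀ j i, mp f (U j) (t j i) = mp g (U j) (t j i)) : f = g := by
  refine SheafOfModules.hom_ext (PresheafOfModules.Hom.ext (funext fun A => ModuleCat.hom_ext
    (LinearMap.ext fun z => ClosedRinged.ext_locally N _ _ fun x hx => ?_)))
  obtain ⟨j, hj⟩ := hU x
  obtain ⟨W, hW, hxW, c, hc⟩ := (ht j).exists_sum (inf_le_right : A.unop ⊓ U j ≤ U j)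
    (res G (inf_le_left : A.unop ⊓ U j ≤ A.unop) z) x ⟨hx, hj⟩
  refine ⟨W, hW.trans inf_le_left, hxW, ?_⟩
  rw [res_res] at hc
  refine (mp_res f (hW.trans inf_le_left) z).symm.trans (Eq.trans ?_ (mp_res g (hW.trans inf_le_left) z))
  rw [← hc, map_sum, map_sum]
  refine Finset.sum_congr rfl fun i _ => ?_
  rw [map_smul, map_smul, mp_res, mp_res, h]

variable {J : Type u} (U : J → Opens X) {ι : J → Type u} [∀ j, Fintype (ι j)]
  (t : ∀ j, ι j → G.val.obj (op (U j))) (m : ∀ j, ι j → N.val.obj (op (U j)))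

/-- Two lifts agree: on overlaps, generators are expressed compatibly. -/
def Compat (j l : J) : Prop :=
  Nearby (U j ⊓ U l) fun W hW => ∃ a : ι j → ι l → fns O W, ∀ i,
    res G (hW.trans inf_le_left) (t j i) = comb (a i) (fun p => res G (hW.trans inf_le_right) (t l p)) ∧
    res N (hW.trans inf_le_left) (m j i) = comb (a i) (fun p => res N (hW.trans inf_le_right) (m l p))

/-- The value of the glued map. -/
def IsVal (A : Opens X) (z : G.val.obj (op A)) (v : N.val.obj (op A)) : Prop :=
  ∀ (j : J) (V : Opens X) (h₁ : V ≤ A) (h₂ : V ≤ U j) (c : ι j → fns O V),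
    comb c (fun i => res G h₂ (t j i)) = res G h₁ z → res N h₁ v = comb c (fun i => res N h₂ (m j i))

variable {U t m} (hU : ∀ x, ∃ j, x ∈ U j) (ht : ∀ j, GenOn G (U j) (t j))
  (hm : ∀ j (V : Opens X) (h : V ≤ U j) (c : ι j → fns O V), comb c (fun i => res G h (t j i)) = 0 →
    comb c (fun i => res N h (m j i)) = 0)
  (hc : ∀ j l, Compat U t m j l)

include hU ht in
theorem IsVal.unique {A : Opens X} {z : G.val.obj (op A)} {v v' : N.val.obj (op A)}
    (hv : IsVal U t m A z v) (hv' : IsVal U t m A z v') : v = v' := by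
  refine ClosedRinged.ext_locally N _ _ fun x hx => ?_
  obtain ⟨j, hj⟩ := hU x
  obtain ⟨W, hW, hxW, c, hc'⟩ := (ht j).exists_sum (inf_le_right : A ⊓ U j ≤ U j)
    (res G (inf_le_left : A ⊓ U j ≤ A) z) x ⟨hx, hj⟩
  rw [res_res] at hc'
  exact ⟨W, hW.trans inf_le_left, hxW,
    (hv j W _ (hW.trans inf_le_right) c hc').trans (hv' j W _ (hW.trans inf_le_right) c hc').symm⟩

include hm hc in
theorem comb_eq_comb {A : Opens X} {z : G.val.obj (op A)} {j l : J} {V : Opens X} (h₁ : V ≤ A)
    (hj : V ≤ U j) (hl : V ≤ U l) {c : ι j → fns O V} {d : ι l → fns O V}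
    (hcz : comb c (fun i => res G hj (t j i)) = res G h₁ z)
    (hdz : comb d (fun i => res G hl (t l i)) = res G h₁ z) :
    comb c (fun i => res N hj (m j i)) = comb d (fun i => res N hl (m l i)) := by
  refine ClosedRinged.ext_locally N _ _ fun x hx => ?_
  obtain ⟨W', hW', hxW', a, ha⟩ := hc j l x ⟨hj hx, hl hx⟩
  let W : Opens X := V ⊓ W'
  have hWV : W ≤ V := inf_le_left
  refine ⟨W, hWV, ⟨hx, hxW'⟩, ?_⟩
  let a' : Matrix (ι j) (ι l) (fns O W) := fun i p => resO O (inf_le_right : W ≤ W') (a i p)
  have hG : (fun i => res G (hWV.trans hj) (t j i)) =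
      fun i => comb (a' i) (fun p => res G (hWV.trans hl) (t l p)) := funext fun i => by
    have := congrArg (res G (inf_le_right : W ≤ W')) (ha i).1
    rw [res_comb'] at this
    simp only [res_res] at this
    exact this
  have hN : (fun i => res N (hWV.trans hj) (m j i)) =
      fun i => comb (a' i) (fun p => res N (hWV.trans hl) (m l p)) := funext fun i => by
    have := congrArg (res N (inf_le_right : W ≤ W')) (ha i).2
    rw [res_comb'] at this
    simp only [res_res] at this
    exact this
  simp only [res_comb', res_res]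
  rw [hN, ← comb_vecMul]
  have h0 : comb (((fun i => resO O hWV (c i)) ᵥ* a') - fun i => resO O hWV (d i))
      (fun p => res G (hWV.trans hl) (t l p)) = 0 := by
    simp only [comb, Pi.sub_apply, sub_smul, Finset.sum_sub_distrib]
    change comb ((fun i => resO O hWV (c i)) ᵥ* a') _ - comb _ _ = 0
    have h1 := congrArg (res G hWV) hcz
    have h2 := congrArg (res G hWV) hdz
    rw [res_comb'] at h1 h2
    simp only [res_res] at h1 h2
    rw [comb_vecMul, ← hG, h1, h2, sub_self]
  have h3 := hm l W (hWV.trans hl) _ h0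
  simp only [comb, Pi.sub_apply, sub_smul, Finset.sum_sub_distrib, sub_eq_zero] at h3
  exact h3

include hU ht hm hc in
theorem exists_isVal (A : Opens X) (z : G.val.obj (op A)) : ∃ v, IsVal U t m A z v := by
  let K := Σ j : J, Σ V : Opens X, {c : ι j → fns O V // ∃ (h₁ : V ≤ A) (h₂ : V ≤ U j),
    comb c (fun i => res G h₂ (t j i)) = res G h₁ z}
  have hle : ∀ k : K, k.2.1 ≤ A := fun k => k.2.2.2.choose
  have hlj : ∀ k : K, k.2.1 ≤ U k.1 := fun k => k.2.2.2.choose_spec.choose
  have heq : ∀ k : K, comb k.2.2.1 (fun i => res G (hlj k) (t k.1 i)) = res G (hle k) z := fun k =>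
    k.2.2.2.choose_spec.choose_spec
  obtain ⟨v, hv⟩ := ClosedRinged.exists_glue N (ι := K) (fun k => k.2.1) hle (fun x hx => by
      obtain ⟨j, hj⟩ := hU x
      obtain ⟨W, hW, hxW, c, hc'⟩ := (ht j).exists_sum (inf_le_right : A ⊓ U j ≤ U j)
        (res G (inf_le_left : A ⊓ U j ≤ A) z) x ⟨hx, hj⟩
      rw [res_res] at hc'
      exact ⟨⟨j, W, c, hW.trans inf_le_left, hW.trans inf_le_right, hc'⟩, hxW⟩)
    (fun k => comb k.2.2.1 (fun i => res N (hlj k) (m k.1 i))) fun k k' => by
      have h1 := congrArg (res G (inf_le_left : k.2.1 ⊓ k'.2.1 ≤ k.2.1)) (heq k)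
      have h2 := congrArg (res G (inf_le_right : k.2.1 ⊓ k'.2.1 ≤ k'.2.1)) (heq k')
      simp only [res_comb', res_res] at h1 h2
      simp only [res_comb', res_res]
      exact comb_eq_comb hm hc _ _ _ h1 h2
  exact ⟨v, fun j V h₁ h₂ c hcz => hv ⟨j, V, c, h₁, h₂, hcz⟩⟩

include hU ht hm hc in
theorem exists_hom : ∃ f : G ⟶ N, ∀ j i, mp f (U j) (t j i) = m j i := by
  classical
  choose val hval using exists_isVal hU ht hm hc
  have uniq : ∀ {A : Opens X} {z : G.val.obj (op A)} {v : N.val.obj (op A)}, IsVal U t m A z v → val A z = v :=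
    fun {A z v} hv => (hval A z).unique hU ht hv
  have cover : ∀ {A : Opens X} (z : G.val.obj (op A)) {v : N.val.obj (op A)},
      (∀ x ∈ A, ∃ (V : Opens X) (h : V ≤ A), x ∈ V ∧ res N h (val A z) = res N h v) → val A z = v :=
    fun z v h => ClosedRinged.ext_locally N _ _ h
  have hres : ∀ {A B : Opens X} (h : B ≤ A) (z : G.val.obj (op A)), val B (res G h z) = res N h (val A z) := by
    intro A B h z
    refine uniq fun j V h₁ h₂ c hcz => ?_
    rw [res_res] at hcz
    rw [res_res]
    exact hval A z j V _ h₂ c hcz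
  have hadd : ∀ {A : Opens X} (z z' : G.val.obj (op A)), val A (z + z') = val A z + val A z' := by
    intro A z z'
    refine cover _ fun x hx => ?_
    obtain ⟨j, hj⟩ := hU x
    obtain ⟨W, hW, hxW, c, hc'⟩ := (ht j).exists_sum (inf_le_right : A ⊓ U j ≤ U j)
      (res G (inf_le_left : A ⊓ U j ≤ A) z) x ⟨hx, hj⟩
    obtain ⟨W', hW', hxW', d, hd'⟩ := (ht j).exists_sum (hW.trans inf_le_right)
      (res G (hW.trans inf_le_left) z') x hxW
    let c' := fun i => resO O hW' (c i)
    have h1 : comb c' (fun i => res G ((hW'.trans hW).trans inf_le_right) (t j i)) =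
        res G ((hW'.trans hW).trans inf_le_left) z := by
      have := congrArg (res G hW') hc'
      rw [res_comb] at this
      simp only [res_res] at this
      exact this
    have h2 : comb d (fun i => res G ((hW'.trans hW).trans inf_le_right) (t j i)) =
        res G ((hW'.trans hW).trans inf_le_left) z' := hd'.trans (res_res G _ _ z')
    refine ⟨W', (hW'.trans hW).trans inf_le_left, hxW', ?_⟩
    rw [res_add, hval A (z + z') j W' _ ((hW'.trans hW).trans inf_le_right) (c' + d) (by
      rw [res_add, ← h1, ← h2]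
      simp only [comb, Pi.add_apply, add_smul, Finset.sum_add_distrib]),
      hval A z j W' _ _ c' h1, hval A z' j W' _ _ d h2]
    simp only [comb, Pi.add_apply, add_smul, Finset.sum_add_distrib]
  have hsmul : ∀ {A : Opens X} (a : fns O A) (z : G.val.obj (op A)), val A (a • z) = a • val A z := by
    intro A a z
    refine cover _ fun x hx => ?_
    obtain ⟨j, hj⟩ := hU x
    obtain ⟨W, hW, hxW, c, hc'⟩ := (ht j).exists_sum (inf_le_right : A ⊓ U j ≤ U j)
      (res G (inf_le_left : A ⊓ U j ≤ A) z) x ⟨hx, hj⟩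
    rw [res_res] at hc'
    refine ⟨W, hW.trans inf_le_left, hxW, ?_⟩
    rw [res_smul, hval A z j W _ _ c hc', hval A (a • z) j W _ (hW.trans inf_le_right)
      (resO O (hW.trans inf_le_left) a • c) (by
        rw [res_smul, ← hc', Finset.smul_sum]
        simp only [comb, Pi.smul_apply, smul_eq_mul, mul_smul])]
    simp only [comb, Pi.smul_apply, smul_eq_mul, mul_smul, Finset.smul_sum]
  let app : ∀ A : (Opens X)ᵒᵖ, G.val.obj A ⟶ N.val.obj A := fun A =>
    ModuleCat.ofHom { toFun := val A.unop, map_add' := hadd, map_smul' := hsmul }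
  let f : G ⟶ N :=
    { val := { app := app
               naturality := fun {A B} g => by
                 ext z
                 exact hres g.unop.le z } }
  refine ⟨f, fun j i => ?_⟩
  change val (U j) (t j i) = m j i
  refine uniq fun l V h₁ h₂ c hcz => ?_
  have h0 : comb (fun p => (1 : Matrix (ι j) (ι j) (fns O V)) i p) (fun p => res G h₁ (t j p)) = res G h₁ (t j i) :=
    comb_one i _
  rw [comb_eq_comb hm hc h₁ h₂ h₁ hcz h0]
  exact (comb_one i fun p => res N h₁ (m j p)).symm

end Groth.Agent.RngSp
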