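import Groth.Agent.RngSp.Free
import Groth.Agent.RngSp.Stalks

/-!
# Stalks of functions at points of ringed spaces, and bases from bases of stalks
-/

set_option autoImplicit false
set_option backward.isDefEq.respectTransparency false
set_option backward.isDefEq.respectTransparency.types false

universe u

open CategoryTheory CategoryTheory.Limits Opposite TopologicalSpace
open Groth.Agent.ClosedRinged Groth.Agent.ModPull
open scoped Matrix

noncomputable section

namespace Groth.Agent.RngSp

variable {X : TopCat.{u}} {O : TopCat.Sheaf CommRingCat.{u} X} {M : ModSite.Mod O}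

/-- The germ of a function. -/
abbrev gR {U : Opens X} {x : X} (hx : x ∈ U) (a : fns O U) : ModSite.stalkRing (pt x) O :=
  ModSite.germRing (pt x) U ⟨⟨hx⟩⟩ (show O.obj.obj (op U) from a)

theorem gR_zero {U : Opens X} {x : X} (hx : x ∈ U) : gR (O := O) hx 0 = 0 :=
  map_zero ((pt x).toPresheafFiber U ⟨⟨hx⟩⟩ O.obj).hom

theorem gR_res {U V : Opens X} {x : X} (h : V ≤ U) (hx : x ∈ V) (a : fns O U) :
    gR hx (resO O h a) = gR (h hx) a :=
  ConcreteCategory.congr_hom ((pt x).toPresheafFiber_w (homOfLE h) ⟨⟨hx⟩⟩ O.obj) a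

theorem exists_gR {x : X} (r : ModSite.stalkRing (pt x) O) :
    ∃ (U : Opens X) (hx : x ∈ U) (a : fns O U), gR hx a = r := by
  obtain ⟨U, h, z, rfl⟩ := (pt x).toPresheafFiber_jointly_surjective (P := O.obj) r
  exact ⟨U, h.down.down, z, rfl⟩

theorem exists_res_eq_zero_of_gR {U : Opens X} {x : X} (hx : x ∈ U) {a : fns O U} (h : gR hx a = 0) :
    ∃ (V : Opens X) (hV : V ≤ U), x ∈ V ∧ resO O hV a = 0 := by
  have h' : gR hx a = gR (O := O) hx 0 := by rw [gR_zero]; exact h
  obtain ⟨V, g, hy, -, he⟩ := ((pt x).toPresheafFiber_eq_iff' (P := O.obj) U ⟨⟨hx⟩⟩ _ _).1 h'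
  exact ⟨V, g.le, hy.down.down, he.trans (map_zero (O.obj.map g.op).hom)⟩

theorem gm_smul {U : Opens X} {x : X} (hx : x ∈ U) (a : fns O U) (z : M.val.obj (op U)) :
    gm M hx (a • z) = gR hx a • gm M hx z :=
  ModSite.germ_smul (pt x) M U ⟨⟨hx⟩⟩ (show O.obj.obj (op U) from a) z

theorem gm_sum {U : Opens X} {x : X} (hx : x ∈ U) {ι : Type*} (s : Finset ι) (f : ι → M.val.obj (op U)) :
    gm M hx (∑ i ∈ s, f i) = ∑ i ∈ s, gm M hx (f i) :=
  map_sum ((pt x).toPresheafFiber U ⟨⟨hx⟩⟩ (ModSite.toAb M).obj).hom f s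

theorem gm_comb {U : Opens X} {x : X} (hx : x ∈ U) {ι : Type*} [Fintype ι] (c : ι → fns O U)
    (t : ι → M.val.obj (op U)) : gm M hx (comb c t) = ∑ i, gR hx (c i) • gm M hx (t i) := by
  rw [comb, gm_sum]
  exact Finset.sum_congr rfl fun i _ => gm_smul hx (c i) (t i)

theorem eq_zero_of_locally {ι : Type*} [Finite ι] {U : Opens X} (c : ι → fns O U)
    (h : Nearby U fun _ hV => ∀ i, resO O hV (c i) = 0) : c = 0 :=
  funext fun i => ClosedRinged.ext_locally (SheafOfModules.unit (ModSite.ringSh O)) _ _ fun x hx => by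
    obtain ⟨V, hV, hxV, he⟩ := h x hx
    exact ⟨V, hV, hxV, (he i).trans (map_zero ((ModSite.ringSh O).obj.map (homOfLE hV).op).hom).symm⟩

/-- A finitely presented module with free stalk is free nearby. -/
theorem exists_basis_of_stalk [SheafOfModules.IsFinitePresentation (R := ModSite.ringSh O) M] (x : X)
    {σ : Type u} [Fintype σ]
    (e : ModSite.stalkMod (pt x) M ≃ₗ[ModSite.stalkRing (pt x) O] (σ → ModSite.stalkRing (pt x) O)) :
    ∃ (U : Opens X) (t : σ → M.val.obj (op U)), x ∈ U ∧ IsBasisOn M U t := by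
  classical
  obtain ⟨U, ι, κ, hι, hκ, E, r, hxU, hE, hr⟩ := isFinitePresentation_iff.1
    ‹SheafOfModules.IsFinitePresentation (R := ModSite.ringSh O) M› x
  haveI := hκ
  haveI := Fintype.ofFinite κ
  let b := (Pi.basisFun (ModSite.stalkRing (pt x) O) σ).map e.symm
  -- lift the basis
  obtain ⟨V, hV, hxV, hs⟩ := nearby_forall hxU
    (P := fun k V _ => ∀ hxV : x ∈ V, ∃ z : M.val.obj (op V), gm M hxV z = b k)
    (fun k V V' _ h' hP hxV => ⟨res M h' (hP (h' hxV)).choose, by rw [gm_res, (hP (h' hxV)).choose_spec]⟩)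
    fun k => by
      obtain ⟨W, hW, z, hz⟩ := exists_gm (M := M) (x := x) (b k)
      exact ⟨U ⊓ W, inf_le_left, ⟨hxU, hW⟩, fun h => ⟨res M inf_le_right z, by rw [gm_res, hz]⟩⟩
  choose s hs using fun k => hs k hxV
  -- express generators and lifts in terms of each other
  obtain ⟨W, hW, hxW, hB⟩ := nearby_forall hxV
    (P := fun j W hW => ∃ B : σ → fns O W,
      comb B (fun k => res M hW (s k)) = res M (hW.trans hV) (E j))
    (fun j W W' hW h' ⟨B, hB⟩ => ⟨_, by
      have := congrArg (res M h') hB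
      rw [res_comb'] at this
      simpa only [res_res] using this⟩)
    fun j => by
      obtain ⟨c, hc⟩ : ∃ c : σ → ModSite.stalkRing (pt x) O, ∑ k, c k • b k = gm M hxU (E j) :=
        ⟨_, b.sum_repr _⟩
      obtain ⟨W, hW, hxW, hA⟩ := nearby_forall hxV
        (P := fun k W _ => ∀ hxW : x ∈ W, ∃ a : fns O W, gR hxW a = c k)
        (fun k V V' _ h' hP hxV => ⟨resO O h' (hP (h' hxV)).choose, by rw [gR_res, (hP (h' hxV)).choose_spec]⟩)
        fun k => by
          obtain ⟨W, hW, a, ha⟩ := exists_gR (c k)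
          exact ⟨V ⊓ W, inf_le_left, ⟨hxV, hW⟩, fun h => ⟨resO O inf_le_right a, by rw [gR_res, ha]⟩⟩
      choose a ha using fun k => hA k hxW
      have : gm M hxW (comb a fun k => res M hW (s k)) = gm M hxW (res M (hW.trans hV) (E j)) := by
        rw [gm_comb, gm_res]
        refine Eq.trans (Finset.sum_congr rfl fun k _ => ?_) hc
        rw [ha, gm_res, hs]
      obtain ⟨W', hW', hxW', he⟩ := (gm_eq_iff hxW _ _).1 this
      refine ⟨W', hW'.trans hW, hxW', fun k => resO O hW' (a k), ?_⟩
      rw [res_comb', res_res] at he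
      simpa only [res_res] using he
  choose B₀ hB using hB
  obtain ⟨W₁, hW₁, hxW₁, hA⟩ := nearby_forall hxW
    (P := fun k W₁ hW₁ => ∃ A : ι → fns O W₁,
      comb A (fun j => res M ((hW₁.trans hW).trans hV) (E j)) = res M (hW₁.trans hW) (s k))
    (fun k W' W'' hW' h' ⟨A, hA⟩ => ⟨_, by
      have := congrArg (res M h') hA
      rw [res_comb'] at this
      simpa only [res_res] using this⟩)
    fun k => by
      obtain ⟨W₁, hW₁, hxW₁, A, hA⟩ := hE.exists_sum (hW.trans hV) (res M hW (s k)) x hxW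
      exact ⟨W₁, hW₁, hxW₁, A, hA.trans (res_res M hW hW₁ _)⟩
  choose A₀ hA using hA
  let A : Matrix σ ι (fns O W₁) := A₀
  let B : Matrix ι σ (fns O W₁) := Matrix.map (Matrix.of B₀) (resO O hW₁)
  let E' := fun j => res M ((hW₁.trans hW).trans hV) (E j)
  let s' := fun k => res M (hW₁.trans hW) (s k)
  have hB' : ∀ j, comb (B j) s' = E' j := fun j => by
    have := congrArg (res M hW₁) (hB j)
    rw [res_comb'] at this
    simp only [res_res] at this
    exact this
  -- the relations among the lifts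
  let R : Matrix (σ ⊕ κ) σ (fns O W₁) := Matrix.of (Sum.elim ((1 : Matrix σ σ (fns O W₁)) - A * B)
    (fun l => Matrix.vecMul (fun j => resO O ((hW₁.trans hW).trans hV) (r l j)) B))
  have hR : ∀ q, comb (R q) s' = 0 := by
    rintro (k | l)
    · change comb ((1 : Matrix σ σ (fns O W₁)) k - Matrix.vecMul (A k) B) s' = 0
      simp only [comb, Pi.sub_apply, sub_smul, Finset.sum_sub_distrib]
      change comb ((1 : Matrix σ σ (fns O W₁)) k) s' - comb (Matrix.vecMul (A k) B) s' = 0
      rw [comb_one, comb_vecMul, funext hB', sub_eq_zero]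
      exact (hA k).symm
    · change comb (Matrix.vecMul _ B) s' = 0
      rw [comb_vecMul, funext hB', comb, ← res_comb, hr.1 l, res_zero]
  have hgR : ∀ q k, gR hxW₁ (R q k) = 0 := fun q k => by
    have h0 := congrArg (gm M hxW₁) (hR q)
    rw [gm_comb, gm_zero] at h0
    have h1 : ∑ k, gR hxW₁ (R q k) • b k = 0 := by
      refine Eq.trans (Finset.sum_congr rfl fun k _ => ?_) h0
      simp only [s', gm_res, hs]
    exact Fintype.linearIndependent_iff.1 b.linearIndependent _ h1 k
  obtain ⟨T, hT, hxT, hR0⟩ := nearby_forall hxW₁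
    (P := fun (p : (σ ⊕ κ) × σ) T hT => resO O hT (R p.1 p.2) = 0)
    (fun p V V' hV h' hp => by rw [← resO_resO hV h', hp]; exact map_zero ((ModSite.ringSh O).obj.map _).hom)
    fun p => exists_res_eq_zero_of_gR hxW₁ (hgR p.1 p.2)
  refine ⟨T, fun k => res M hT (s' k), hxT, ?_, fun S hS c hc => ?_⟩
  · refine genOn_of_exists_sum fun S hS z y hy => ?_
    obtain ⟨S', hS', hy', c, hc⟩ := hE.exists_sum (hS.trans (hT.trans ((hW₁.trans hW).trans hV))) z y hy
    refine ⟨S', hS', hy', Matrix.vecMul c (B.map (resO O ((hS'.trans hS).trans hT))), ?_⟩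
    change comb (Matrix.vecMul c _) (fun k => res M (hS'.trans hS) (res M hT (s' k))) = _
    rw [comb_vecMul, ← hc]
    refine Finset.sum_congr rfl fun j _ => ?_
    congr 1
    have := congrArg (res M ((hS'.trans hS).trans hT)) (hB' j)
    rw [res_comb'] at this
    simp only [res_res, E'] at this ⊢
    exact this
  · have hl : S ≤ W₁ := hS.trans hT
    let ρ := ((ModSite.ringSh O).obj.map (homOfLE hl).op).hom
    have hR' : R.map ρ = 0 := Matrix.ext fun q k => by
      have := congrArg (resO O hS) (hR0 (q, k))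
      rw [resO_resO] at this
      exact this.trans (map_zero ((ModSite.ringSh O).obj.map (homOfLE hS).op).hom)
    have hAB : A.map ρ * B.map ρ = 1 := by
      rw [← Matrix.map_mul]
      refine Matrix.ext fun k k' => ?_
      have h0 : ρ ((1 : Matrix σ σ (fns O W₁)) k k' - (A * B) k k') = 0 :=
        congrFun (congrFun hR' (Sum.inl k)) k'
      rw [map_sub, sub_eq_zero] at h0
      rw [Matrix.map_apply, ← h0, Matrix.one_apply, Matrix.one_apply]
      split_ifs <;> simp
    let d := Matrix.vecMul c (A.map ρ)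
    have hd : comb d (fun j => res M (hl.trans ((hW₁.trans hW).trans hV)) (E j)) = 0 := by
      rw [comb_vecMul]
      refine Eq.trans (congrArg (comb c) (funext fun k => ?_)) hc
      have := congrArg (res M hl) (hA k)
      rw [res_comb'] at this
      simp only [res_res, s'] at this ⊢
      exact this
    have hd0 : Matrix.vecMul d (B.map ρ) = 0 := by
      refine eq_zero_of_locally _ fun y hy => ?_
      obtain ⟨S', hS', hy', hspan⟩ := hr.2 S _ d hd y hy
      obtain ⟨q, hq⟩ := (Submodule.mem_span_range_iff_exists_fun _).1 hspan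
      refine ⟨S', hS', hy', fun k => ?_⟩
      let τ := ((ModSite.ringSh O).obj.map (homOfLE hS').op).hom
      change τ (Matrix.vecMul d (B.map ρ) k) = 0
      rw [RingHom.map_vecMul, show τ ∘ d = _ from hq.symm, Matrix.sum_vecMul, Finset.sum_apply]
      refine Finset.sum_eq_zero fun l _ => ?_
      rw [Matrix.smul_vecMul, Pi.smul_apply]
      refine Eq.trans (congrArg (q l • ·) ?_) (smul_zero (q l))
      have h0 : ρ (Matrix.vecMul (fun j => resO O ((hW₁.trans hW).trans hV) (r l j)) B k) = 0 :=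
        congrFun (congrFun hR' (Sum.inr l)) k
      have h1 := congrArg τ h0
      rw [map_zero, RingHom.map_vecMul, RingHom.map_vecMul] at h1
      refine Eq.trans ?_ h1
      refine congrArg (fun v => Matrix.vecMul v ((B.map ρ).map τ) k) (funext fun j => ?_)
      exact ((resO_resO hl hS' _).trans (resO_resO _ _ _)).symm
    calc c = Matrix.vecMul c (A.map ρ * B.map ρ) := by rw [hAB, Matrix.vecMul_one]
      _ = Matrix.vecMul d (B.map ρ) := (Matrix.vecMul_vecMul _ _ _).symm
      _ = 0 := hd0

end Groth.Agent.RngSp
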