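import Groth.Agent.RngSp.Gens
import Groth.Agent.ClosedRinged.Push

/-!
# Finite type and finite presentation modules on ringed spaces
-/

set_option autoImplicit false
set_option backward.isDefEq.respectTransparency false
set_option backward.isDefEq.respectTransparency.types false

universe u

open CategoryTheory CategoryTheory.Limits Opposite TopologicalSpace
open Groth.Agent.ClosedRinged Groth.Agent.ModPull

noncomputable section

namespace Groth.Agent.RngSp

variable {X : TopCat.{u}} {O : TopCat.Sheaf CommRingCat.{u} X} {M N : ModSite.Mod O}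

/-- Functions on an open. -/
abbrev fns (O : TopCat.Sheaf CommRingCat.{u} X) (U : Opens X) : Type u := (ModSite.ringSh O).obj.obj (op U)

variable (M) in
/-- A property of opens inside `U` holds near every point. -/
def Nearby (U : Opens X) (P : ∀ V : Opens X, V ≤ U → Prop) : Prop :=
  ∀ x ∈ U, ∃ (V : Opens X) (h : V ≤ U), x ∈ V ∧ P V h

theorem nearby_of_locally {U : Opens X} {W : Over U} {P : ∀ ⦃A : Over U⦄, (A ⟶ W) → Prop}
    (hL : Locally ((Opens.grothendieckTopology X).over U) W P) :
    Nearby W.left (fun V h => P (Over.homMk (U := Over.mk (homOfLE h ≫ W.hom)) (homOfLE h) rfl :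
      Over.mk (homOfLE h ≫ W.hom) ⟶ W)) := by
  obtain ⟨S, hS, hP⟩ := hL
  intro x hx
  rw [GrothendieckTopology.mem_over_iff] at hS
  obtain ⟨V, i, hi, hxV⟩ := hS x hx
  refine ⟨V, i.le, hxV, hP _ ?_⟩
  obtain ⟨A, g, h', hg, e⟩ := hi
  have : (Over.homMk (U := Over.mk (homOfLE i.le ≫ W.hom)) (homOfLE i.le) rfl :
      Over.mk (homOfLE i.le ≫ W.hom) ⟶ W) =
      (Over.homMk h' (Subsingleton.elim _ _) : Over.mk (homOfLE i.le ≫ W.hom) ⟶ A) ≫ g :=
    Over.OverMorphism.ext (Subsingleton.elim _ _)
  rw [this]
  exact S.downward_closed hg _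

theorem locally_of_nearby {U : Opens X} {W : Over U} {P : ∀ ⦃A : Over U⦄, (A ⟶ W) → Prop}
    (h : ∀ x ∈ W.left, ∃ V : Opens X, x ∈ V ∧ ∀ ⦃A : Over U⦄ (g : A ⟶ W), A.left ≤ V → P g) :
    Locally ((Opens.grothendieckTopology X).over U) W P := by
  refine ⟨{ arrows := fun A g => ∃ V : Opens X, A.left ≤ V ∧ ∀ ⦃B : Over U⦄ (g' : B ⟶ W), B.left ≤ V → P g'
            downward_closed := fun {A B} g hg f =>
              ⟨hg.choose, f.left.le.trans hg.choose_spec.1, hg.choose_spec.2⟩ }, ?_, ?_⟩
  · rw [GrothendieckTopology.mem_over_iff]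
    intro x hx
    obtain ⟨V, hxV, hV⟩ := h x hx
    refine ⟨V ⊓ W.left, homOfLE inf_le_right, ⟨Over.mk (homOfLE inf_le_right ≫ W.hom),
      Over.homMk (homOfLE inf_le_right) rfl, 𝟙 _, ⟨V, inf_le_left, hV⟩, by simp⟩, hxV, hx⟩
  · rintro A g ⟨V, hle, hV⟩
    exact hV g hle

variable (M) in
/-- Sections generating a module over an open. -/
def GenOn (U : Opens X) {ι : Type u} (t : ι → M.val.obj (op U)) : Prop :=
  ∀ (V : Opens X) (h : V ≤ U) (z : M.val.obj (op V)), Nearby V fun W hW =>
    res M hW z ∈ Submodule.span (fns O W) (Set.range fun i => res M (hW.trans h) (t i))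

theorem res_mem_span {ι : Type*} {V W : Opens X} (h : W ≤ V) (z : M.val.obj (op V))
    (t : ι → M.val.obj (op V)) (hz : z ∈ Submodule.span (fns O V) (Set.range t)) :
    res M h z ∈ Submodule.span (fns O W) (Set.range fun i => res M h (t i)) := by
  induction hz using Submodule.span_induction with
  | mem a ha => obtain ⟨i, rfl⟩ := ha; exact Submodule.subset_span ⟨i, rfl⟩
  | zero => rw [res_zero]; exact zero_mem _
  | add a b _ _ ha hb => rw [res_add]; exact add_mem ha hb
  | smul r a _ ha => rw [res_smul]; exact Submodule.smul_mem _ _ ha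

/-- A section on an open as a section of the restriction. -/
def secOver {U : Opens X} (t : M.val.obj (op U)) : ((ModSite.restr O U).obj M).sections :=
  PresheafOfModules.sectionsMk (fun A => res M A.unop.hom.le t) fun _ B g =>
    res_res M _ g.unop.left.le t

theorem secOver_eval {U : Opens X} (t : M.val.obj (op U)) (A : Over U) :
    (secOver t).eval (op A) = res M A.hom.le t := rfl

theorem sections_eval {U : Opens X} (s : ((ModSite.restr O U).obj M).sections) (A : Over U) :
    s.eval (op A) = res M A.hom.le (s.eval (op (Over.mk (𝟙 U)))) :=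
  (PresheafOfModules.sections_property s (Over.homMk A.hom (Category.comp_id _) : A ⟶ Over.mk (𝟙 U)).op).symm

theorem gens_secOver_iff {U : Opens X} {ι : Type u} (t : ι → M.val.obj (op U)) :
    Gens ((ModSite.restr O U).obj M) (fun i => secOver (t i)) ↔ GenOn M U t := by
  constructor
  · intro h V hV z x hx
    exact nearby_of_locally (h (Over.mk (homOfLE hV)) z) x hx
  · intro h A z
    refine locally_of_nearby fun x hx => ?_
    obtain ⟨V, hV, hxV, hz⟩ := h A.left A.hom.le z x hx
    refine ⟨V, hxV, fun B g hB => ?_⟩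
    have h2 := res_mem_span hB (res M hV z) _ hz
    simp only [res_res] at h2
    exact h2

theorem GenOn.mono {U V : Opens X} {ι : Type u} {t : ι → M.val.obj (op U)} (h : GenOn M U t) (hV : V ≤ U) :
    GenOn M V (fun i => res M hV (t i)) := fun W hW z x hx => by
  obtain ⟨W', h', hx', hz⟩ := h W (hW.trans hV) z x hx
  exact ⟨W', h', hx', by simpa only [res_res] using hz⟩

/-- The values of generating sections over an open generate it. -/
theorem genOn_of_generatingSections {U : Opens X} (σ : ((ModSite.restr O U).obj M).GeneratingSections)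
    [Finite σ.I] : GenOn M U fun i => (σ.s i).eval (op (Over.mk (𝟙 U))) := by
  rw [← gens_secOver_iff]
  have : (fun i => secOver (M := M) ((σ.s i).eval (op (Over.mk (𝟙 U))))) = σ.s := funext fun i =>
    PresheafOfModules.sections_ext _ _ fun A => (sections_eval (σ.s i) A.unop).symm
  rw [this]
  exact gens_generatingSections σ

theorem exists_mem_of_coversTop {I : Type u} {U : I → Opens X}
    (h : (Opens.grothendieckTopology X).CoversTop U) (x : X) : ∃ i, x ∈ U i :=
  ((Opens.coversTop_iff _ U).1 h).exists_mem x

theorem coversTop_of_forall {I : Type u} {U : I → Opens X} (h : ∀ x : X, ∃ i, x ∈ U i) :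
    (Opens.grothendieckTopology X).CoversTop U :=
  (Opens.coversTop_iff _ U).2 (top_le_iff.1 fun x _ => Opens.mem_iSup.2 (h x))

theorem isFiniteType_iff :
    SheafOfModules.IsFiniteType (R := ModSite.ringSh O) M ↔
      ∀ x : X, ∃ (U : Opens X) (ι : Type u) (_ : Finite ι) (t : ι → M.val.obj (op U)), x ∈ U ∧ GenOn M U t := by
  constructor
  · intro h x
    obtain ⟨σ, hσ⟩ := h.exists_localGeneratorsData
    obtain ⟨i, hi⟩ := exists_mem_of_coversTop σ.coversTop x
    haveI : Finite (σ.generators i).I := (hσ.isFiniteType i).finite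
    exact ⟨σ.X i, (σ.generators i).I, ‹_›, _, hi, genOn_of_generatingSections (σ.generators i)⟩
  · intro h
    choose U ι hι t hx ht using h
    let σ : SheafOfModules.LocalGeneratorsData.{u} (R := ModSite.ringSh O) M :=
      { I := X, X := U, coversTop := coversTop_of_forall fun x => ⟨x, hx x⟩
        generators := fun x => ((gens_secOver_iff _).2 (ht x)).generatingSections }
    constructor
    refine ⟨σ, ?_⟩
    constructor
    intro x
    constructor
    exact hι x

variable (M) in
/-- Families generating the relations between sections over an open. -/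
def RelOn (U : Opens X) {ι κ : Type u} [Fintype ι] (t : ι → M.val.obj (op U)) (r : κ → ι → fns O U) : Prop :=
  (∀ l, ∑ i, r l i • t i = 0) ∧
    ∀ (V : Opens X) (h : V ≤ U) (c : ι → fns O V), ∑ i, c i • res M h (t i) = 0 →
      Nearby V fun W hW => (fun i => resO O hW (c i)) ∈
        Submodule.span (fns O W) (Set.range fun l i => resO O (hW.trans h) (r l i))

theorem res_sum {ι : Type*} (s : Finset ι) {U V : Opens X} (h : V ≤ U) (f : ι → M.val.obj (op U)) :
    res M h (∑ i ∈ s, f i) = ∑ i ∈ s, res M h (f i) :=
  map_sum (M.val.map (homOfLE h).op).hom f s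

theorem resO_mem_span {ι κ : Type*} {V W : Opens X} (h : W ≤ V) (c : ι → fns O V) (r : κ → ι → fns O V)
    (hc : c ∈ Submodule.span (fns O V) (Set.range r)) :
    (fun i => resO O h (c i)) ∈ Submodule.span (fns O W) (Set.range fun l i => resO O h (r l i)) := by
  induction hc using Submodule.span_induction with
  | mem a ha => obtain ⟨i, rfl⟩ := ha; exact Submodule.subset_span ⟨i, rfl⟩
  | zero => simp only [Pi.zero_apply, map_zero]; exact zero_mem _
  | add a b _ _ ha hb => simp only [Pi.add_apply, map_add]; exact add_mem ha hb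
  | smul r a _ ha =>
    simp only [Pi.smul_apply, smul_eq_mul, map_mul]
    exact Submodule.smul_mem _ _ ha

/-- A function on an open as a section of the unit. -/
def fnOver {U : Opens X} (a : fns O U) : (unitM (O.over U)).sections :=
  PresheafOfModules.sectionsMk (M := (unitM (O.over U)).val) (fun A => resO O A.unop.hom.le a) fun _ B g =>
    resO_resO _ g.unop.left.le a

theorem relGens_secOver {U : Opens X} {ι κ : Type u} [Fintype ι] {t : ι → M.val.obj (op U)}
    {r : κ → ι → fns O U} (h : RelOn M U t r) :
    RelGens (M := (ModSite.restr O U).obj M) (fun i => secOver (t i)) (fun l i => fnOver (r l i)) := by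
  refine ⟨fun l A => ?_, fun A c hc => ?_⟩
  · change ∑ i, resO O A.unop.hom.le (r l i) • res M A.unop.hom.le (t i) = 0
    simp only [← res_smul]
    rw [← res_sum, h.1 l, res_zero]
  · refine locally_of_nearby fun x hx => ?_
    obtain ⟨V, hV, hxV, hc'⟩ := h.2 A.left A.hom.le c hc x hx
    refine ⟨V, hxV, fun B g hB => ?_⟩
    have h2 := resO_mem_span hB _ _ hc'
    simp only [resO_resO] at h2
    exact h2

theorem relOn_of_relGens {U : Opens X} {ι κ : Type u} [Fintype ι]
    {s : ι → ((ModSite.restr O U).obj M).sections} {r : κ → ι → (unitM (O.over U)).sections}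
    (h : RelGens s r) :
    RelOn M U (fun i => (s i).eval (op (Over.mk (𝟙 U)))) (fun l i => (r l i).eval (op (Over.mk (𝟙 U)))) := by
  refine ⟨fun l => h.isRel l _, fun V hV c hc x hx => ?_⟩
  have e : ∀ l i (A : Over U), (r l i).eval (op A) = resO O A.hom.le ((r l i).eval (op (Over.mk (𝟙 U)))) :=
    fun l i A => (PresheafOfModules.sections_property (r l i)
      (Over.homMk A.hom (Category.comp_id _) : A ⟶ Over.mk (𝟙 U)).op).symm
  obtain ⟨W, hW, hxW, hc'⟩ := nearby_of_locally (h.gen (Over.mk (homOfLE hV)) c (by
    refine Eq.trans (Finset.sum_congr rfl fun i _ => ?_) hc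
    exact congrArg (c i • ·) (sections_eval (s i) (Over.mk (homOfLE hV))))) x hx
  refine ⟨W, hW, hxW, ?_⟩
  have key : ∀ A : Over U, (Set.range fun l i => ((r l i).eval (op A) : fns O A.left)) =
      Set.range fun l i => resO O A.hom.le ((r l i).eval (op (Over.mk (𝟙 U)))) :=
    fun A => congrArg Set.range (funext fun l => funext fun i => e l i A)
  exact (congrArg (fun S => (fun i => resO O hW (c i)) ∈ Submodule.span (fns O W) S)
    (key (Over.mk (homOfLE hW ≫ homOfLE hV)))).mp hc'

theorem isFinitePresentation_iff :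
    SheafOfModules.IsFinitePresentation (R := ModSite.ringSh O) M ↔
      ∀ x : X, ∃ (U : Opens X) (ι κ : Type u) (_ : Fintype ι) (_ : Finite κ) (t : ι → M.val.obj (op U))
        (r : κ → ι → fns O U), x ∈ U ∧ GenOn M U t ∧ RelOn M U t r := by
  constructor
  · intro h x
    obtain ⟨q, hq⟩ := h.exists_quasicoherentData
    obtain ⟨i, hi⟩ := exists_mem_of_coversTop q.coversTop x
    haveI := hq.isFinite_presentation i
    haveI : Finite (q.presentation i).generators.I := SheafOfModules.GeneratingSections.IsFiniteType.finite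
    haveI := Fintype.ofFinite (q.presentation i).generators.I
    obtain ⟨r, hr⟩ := exists_relGens_of_presentation (M := (ModSite.restr O (q.X i)).obj M) (q.presentation i)
    exact ⟨q.X i, _, _, inferInstance, SheafOfModules.GeneratingSections.IsFiniteType.finite, _, _, hi,
      genOn_of_generatingSections (q.presentation i).generators, relOn_of_relGens hr⟩
  · intro h
    choose U ι κ hι hκ t r hx ht hr using h
    have hp : ∀ x, ∃ P : ((ModSite.restr O (U x)).obj M).Presentation, P.IsFinite := fun x =>
      @exists_presentation _ _ _ _ _ _ (hι x) _ (hκ x) _ ((gens_secOver_iff _).2 (ht x)) _ (relGens_secOver (hr x))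
    choose P hP using hp
    let q : SheafOfModules.QuasicoherentData.{u} (R := ModSite.ringSh O) M :=
      { I := X, X := U, coversTop := coversTop_of_forall fun x => ⟨x, hx x⟩, presentation := P }
    constructor
    refine ⟨q, ?_⟩
    constructor
    exact hP

end Groth.Agent.RngSp
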