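import Groth.Agent.ModPull.Sections
import Groth.Agent.FDescent.ModEpi

/-!
# Generators and relations of sheaves of modules on a site, sectionwise
-/

set_option autoImplicit false
set_option backward.isDefEq.respectTransparency false
set_option backward.isDefEq.respectTransparency.types false

universe u

open CategoryTheory CategoryTheory.Limits Opposite
open Groth.Agent.ModPull

noncomputable section

namespace Groth.Agent.RngSp

variable {C : Type u} [SmallCategory C] {J : GrothendieckTopology C} {O : Sheaf J CommRingCat.{u}}
  {M N : ModSite.Mod O}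

/-- Sections of the structure sheaf. -/
abbrev rO (O : Sheaf J CommRingCat.{u}) (X : Cᵒᵖ) : Type u := (ModSite.ringSh O).obj.obj X

/-- Restriction. -/
abbrev rsM (M : ModSite.Mod O) {V W : C} (g : V ⟶ W) (z : M.val.obj (op W)) : M.val.obj (op V) :=
  M.val.map g.op z

/-- Restriction of functions. -/
abbrev rsR (O : Sheaf J CommRingCat.{u}) {V W : C} (g : V ⟶ W) (a : rO O (op W)) : rO O (op V) :=
  (ModSite.ringSh O).obj.map g.op a

theorem rsM_smul {V W : C} (g : V ⟶ W) (a : rO O (op W)) (z : M.val.obj (op W)) :
    rsM M g (a • z) = rsR O g a • rsM M g z :=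
  M.val.map_smul g.op a z

theorem rsM_eval {V W : C} (g : V ⟶ W) (s : M.sections) : rsM M g (s.eval (op W)) = s.eval (op V) :=
  PresheafOfModules.sections_property s g.op

variable {ι : Type u}

/-- A family of global sections generates. -/
def Gens (M : ModSite.Mod O) (s : ι → M.sections) : Prop :=
  ∀ (W : C) (z : M.val.obj (op W)), Locally J W fun V g =>
    rsM M g z ∈ Submodule.span (rO O (op V)) (Set.range fun i => (s i).eval (op V))

theorem gens_of_epi [Finite ι] (s : ι → M.sections) (h : Epi (M.freeHomEquiv.symm s)) : Gens M s := by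
  let σ : M.GeneratingSections := ⟨ι, s, h⟩
  haveI : Finite σ.I := ‹Finite ι›
  intro W z
  obtain ⟨S, hS, hz⟩ := FDescent.exists_cover_eq_app σ.π W z
  refine ⟨S, hS, fun V g hg => ?_⟩
  obtain ⟨y, hy⟩ := hz g hg
  have := FDescent.app_mem_span σ (op V) y
  rw [hy] at this
  exact this

theorem gens_generatingSections (σ : M.GeneratingSections) [Finite σ.I] : Gens M σ.s := gens_of_epi σ.s σ.epi

theorem epi_of_gens (s : ι → M.sections) (h : Gens M s) : Epi (M.freeHomEquiv.symm s) := by
  refine ⟨fun {Z} a b e => SheafOfModules.hom_ext (PresheafOfModules.Hom.ext (funext fun X =>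
    ModuleCat.hom_ext (LinearMap.ext fun z => ?_)))⟩
  have hs : ∀ i (V : Cᵒᵖ), a.val.app V ((s i).eval V) = b.val.app V ((s i).eval V) := fun i V => by
    have h1 := congrArg (fun q => (SheafOfModules.freeHomEquiv Z q i).eval V) e
    simp only [SheafOfModules.freeHomEquiv_comp_apply, Equiv.apply_symm_apply] at h1
    exact h1
  refine eq_of_locally' Z ((h X.unop z).mono fun V g hg => ?_)
  refine (PresheafOfModules.naturality_apply a.val g.op z).symm.trans ?_
  refine Eq.trans ?_ (PresheafOfModules.naturality_apply b.val g.op z)
  refine LinearMap.eqOn_span (f := (a.val.app (op V)).hom) (g := (b.val.app (op V)).hom) ?_ hg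
  rintro _ ⟨i, rfl⟩
  exact hs i (op V)

/-- Generating sections from a generating family. -/
def Gens.generatingSections {s : ι → M.sections} (h : Gens M s) : M.GeneratingSections :=
  ⟨ι, s, epi_of_gens s h⟩

section Free

variable (O) in
/-- The free module. -/
abbrev freeM (ι : Type u) : ModSite.Mod O := SheafOfModules.free (R := ModSite.ringSh O) ι

variable (O) in
/-- The unit module. -/
abbrev unitM : ModSite.Mod O := SheafOfModules.unit (ModSite.ringSh O)

/-- Coordinate projections. -/
def coordHom [DecidableEq ι] (i : ι) : freeM O ι ⟶ unitM O :=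
  Cofan.IsColimit.desc (SheafOfModules.isColimitFreeCofan ι) fun j => if j = i then 𝟙 _ else 0

theorem ιFree_coordHom [DecidableEq ι] (i j : ι) :
    SheafOfModules.ιFree (R := ModSite.ringSh O) j ≫ coordHom i = if j = i then 𝟙 _ else 0 :=
  Cofan.IsColimit.fac (SheafOfModules.isColimitFreeCofan ι) _ j

theorem sum_coordHom_ιFree [DecidableEq ι] [Fintype ι] :
    ∑ i, coordHom (O := O) i ≫ SheafOfModules.ιFree i = 𝟙 (freeM O ι) := by
  refine Cofan.IsColimit.hom_ext (SheafOfModules.isColimitFreeCofan ι) _ _ fun j => ?_
  change SheafOfModules.ιFree (R := ModSite.ringSh O) j ≫ (_ : freeM O ι ⟶ freeM O ι) =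
    SheafOfModules.ιFree (R := ModSite.ringSh O) j ≫ (_ : freeM O ι ⟶ freeM O ι)
  rw [Preadditive.comp_sum, Finset.sum_eq_single j, ← Category.assoc, ιFree_coordHom, if_pos rfl]
  · simp
  · intro b _ hb
    rw [← Category.assoc, ιFree_coordHom, if_neg (Ne.symm hb), zero_comp]
  · simp

/-- The coordinates of a section of a free module. -/
def coord [DecidableEq ι] (i : ι) {X : Cᵒᵖ} : (freeM O ι).val.obj X →ₗ[rO O X] rO O X :=
  ((coordHom (O := O) i).val.app X).hom

theorem ιFree_app (i : ι) {X : Cᵒᵖ} (a : rO O X) :
    (SheafOfModules.ιFree (R := ModSite.ringSh O) i).val.app X a =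
      a • (SheafOfModules.freeSection (R := ModSite.ringSh O) i).eval X := by
  have e : (SheafOfModules.freeSection (R := ModSite.ringSh O) i).eval X =
      (SheafOfModules.ιFree (R := ModSite.ringSh O) i).val.app X (1 : rO O X) := rfl
  rw [e, ← map_smul ((SheafOfModules.ιFree (R := ModSite.ringSh O) i).val.app X).hom]
  exact congrArg _ (mul_one a).symm

theorem coord_freeSection [DecidableEq ι] (i j : ι) (X : Cᵒᵖ) :
    coord i ((SheafOfModules.freeSection (R := ModSite.ringSh O) j).eval X) = if j = i then 1 else 0 := by
  have e : (SheafOfModules.ιFree (R := ModSite.ringSh O) j ≫ coordHom i).val.app X (1 : rO O X) =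
      coord i ((SheafOfModules.freeSection (R := ModSite.ringSh O) j).eval X) := rfl
  rw [← e, ιFree_coordHom]
  split_ifs <;> rfl

theorem expand [DecidableEq ι] [Fintype ι] {X : Cᵒᵖ} (z : (freeM O ι).val.obj X) :
    z = ∑ i, coord i z • (SheafOfModules.freeSection (R := ModSite.ringSh O) i).eval X := by
  have h := congrArg (fun f : freeM O ι ⟶ freeM O ι =>
    ((SheafOfModules.forget (ModSite.ringSh O) ⋙ PresheafOfModules.evaluation _ X).map f).hom z)
    (sum_coordHom_ιFree (O := O) (ι := ι))
  simp only [Functor.map_sum, ModuleCat.hom_sum, LinearMap.sum_apply] at h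
  refine Eq.trans ?_ ((h.symm.trans ?_).trans (Finset.sum_congr rfl fun i _ => ιFree_app i (coord i z)))
  · rfl
  · rfl

theorem app_freeSection (s : ι → M.sections) (i : ι) (X : Cᵒᵖ) :
    (M.freeHomEquiv.symm s).val.app X ((SheafOfModules.freeSection (R := ModSite.ringSh O) i).eval X) =
      (s i).eval X :=
  congrArg (fun q => q.eval X)
    (SheafOfModules.sectionsMap_freeHomEquiv_symm_freeSection s i)

end Free

section Rel

variable [Fintype ι] {κ : Type u}

/-- Families of relations generating all relations. -/
structure RelGens (s : ι → M.sections) (r : κ → ι → (unitM O).sections) : Prop where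
  isRel : ∀ (l : κ) (X : Cᵒᵖ), ∑ i, ((r l i).eval X : rO O X) • (s i).eval X = 0
  gen : ∀ (W : C) (c : ι → rO O (op W)), ∑ i, c i • (s i).eval (op W) = 0 →
    Locally J W fun V g => (fun i => rsR O g (c i)) ∈
      Submodule.span (rO O (op V)) (Set.range fun l i => ((r l i).eval (op V) : rO O (op V)))

theorem shortExact_ker {F G : ModSite.Mod O} (f : F ⟶ G) [Epi f] :
    (ShortComplex.mk (kernel.ι f) f (kernel.condition f)).ShortExact :=
  .mk' (ShortComplex.exact_of_f_is_kernel _ (kernelIsKernel f)) inferInstance ‹_›

theorem app_kerι {F G : ModSite.Mod O} (f : F ⟶ G) {X : Cᵒᵖ} (z : (kernel f).val.obj X) :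
    f.val.app X ((kernel.ι f).val.app X z) = 0 :=
  show (kernel.ι f ≫ f).val.app X z = 0 by rw [kernel.condition]; rfl

theorem exists_relGens_of_presentation (P : M.Presentation) [P.IsFinite] [Fintype P.generators.I] :
    ∃ r : P.relations.I → P.generators.I → (unitM O).sections, RelGens P.generators.s r := by
  classical
  let π := P.generators.π
  haveI : Finite P.relations.I := SheafOfModules.GeneratingSections.IsFiniteType.finite
  haveI : Epi π := P.generators.epi
  refine ⟨fun l i => SheafOfModules.sectionsMap (kernel.ι π ≫ coordHom i) (P.relations.s l), ⟨?_, ?_⟩⟩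
  · intro l X
    let k := (P.relations.s l).eval X
    have h0 := app_kerι π k
    rw [expand ((kernel.ι π).val.app X k), map_sum] at h0
    refine Eq.trans (Finset.sum_congr rfl fun i _ => ?_) h0
    rw [map_smul, app_freeSection]
    rfl
  · intro W c hc
    let z : (freeM O P.generators.I).val.obj (op W) :=
      ∑ i, c i • (SheafOfModules.freeSection (R := ModSite.ringSh O) i).eval (op W)
    have hz : π.val.app (op W) z = 0 := by
      refine Eq.trans ?_ hc
      simp only [z, map_sum, map_smul]
      exact Finset.sum_congr rfl fun i _ => congrArg (c i • ·) (app_freeSection _ i _)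
    obtain ⟨x, hx⟩ := exists_app_eq_of_exact (shortExact_ker π) z hz
    refine (gens_generatingSections P.relations W x).mono fun V g hg => ?_
    let L : (kernel π).val.obj (op V) →ₗ[rO O (op V)] (P.generators.I → rO O (op V)) :=
      LinearMap.pi fun i => coord i ∘ₗ ((kernel.ι π).val.app (op V)).hom
    have hL : (fun i => rsR O g (c i)) = L (rsM (kernel π) g x) := by
      funext i
      refine Eq.trans ?_ (congrArg (coord i) (PresheafOfModules.naturality_apply (kernel.ι π).val g.op x).symm)
      change _ = coord i (rsM (freeM O _) g ((kernel.ι π).val.app (op W) x))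
      rw [show (kernel.ι π).val.app (op W) x = z from hx]
      simp only [z, rsM, map_sum]
      rw [Finset.sum_eq_single i]
      · rw [show (freeM O _).val.map g.op (c i • _) = rsR O g (c i) • rsM (freeM O _) g _ from rsM_smul g _ _,
          map_smul, rsM_eval, coord_freeSection, if_pos rfl]
        exact (mul_one _).symm
      · intro j _ hj
        rw [show (freeM O _).val.map g.op (c j • _) = rsR O g (c j) • rsM (freeM O _) g _ from rsM_smul g _ _,
          map_smul, rsM_eval, coord_freeSection, if_neg hj, smul_zero]
      · simp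
    rw [hL]
    have h2 := Submodule.mem_map_of_mem (f := L) hg
    rw [Submodule.map_span, ← Set.range_comp] at h2
    exact h2

/-- The relation as a section of the free module. -/
def relSec (ρ : ι → (unitM O).sections) : (freeM O ι).sections :=
  PresheafOfModules.sectionsMk
    (fun X => ∑ i, ((ρ i).eval X : rO O X) • (SheafOfModules.freeSection (R := ModSite.ringSh O) i).eval X)
    fun X Y g => by
      change rsM (freeM O ι) g.unop _ = _
      simp only [rsM, map_sum]
      refine Finset.sum_congr rfl fun i _ => ?_
      refine ((freeM O ι).val.map_smul g _ _).trans (congrArg₂ (· • ·) ?_ ?_)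
      · exact PresheafOfModules.sections_property (ρ i) g
      · exact PresheafOfModules.sections_property (SheafOfModules.freeSection (R := ModSite.ringSh O) i) g

theorem exists_presentation [Finite κ] (s : ι → M.sections) (hs : Gens M s) (r : κ → ι → (unitM O).sections)
    (hr : RelGens s r) : ∃ P : M.Presentation, P.IsFinite := by
  classical
  let π := M.freeHomEquiv.symm s
  haveI : Epi π := epi_of_gens s hs
  have hcomp : ∀ l, (freeM O ι).unitHomEquiv.symm (relSec (r l)) ≫ π = 0 := fun l => by
    apply M.unitHomEquiv.injective
    refine PresheafOfModules.sections_ext _ _ fun X => ?_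
    have e : ((freeM O ι).unitHomEquiv.symm (relSec (r l))).val.app X (1 : rO O X) = (relSec (r l)).eval X :=
      congrArg (fun q => q.eval X)
        ((freeM O ι).unitHomEquiv.apply_symm_apply (relSec (r l)))
    change π.val.app X (((freeM O ι).unitHomEquiv.symm (relSec (r l))).val.app X (1 : rO O X)) = 0
    rw [e]
    change π.val.app X (∑ i, ((r l i).eval X : rO O X) • _) = 0
    rw [map_sum]
    refine Eq.trans (Finset.sum_congr rfl fun i _ => ?_) (hr.isRel l X)
    rw [map_smul, app_freeSection]
  let k : κ → (kernel π).sections := fun l =>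
    (kernel π).unitHomEquiv (kernel.lift π _ (hcomp l))
  have hk : ∀ l X, (kernel.ι π).val.app X ((k l).eval X) = (relSec (r l)).eval X := fun l X => by
    change (kernel.lift π _ (hcomp l) ≫ kernel.ι π).val.app X (1 : rO O X) = _
    rw [kernel.lift_ι]
    exact congrArg (fun q => q.eval X)
      ((freeM O ι).unitHomEquiv.apply_symm_apply (relSec (r l)))
  have hgen : Gens (kernel π) k := fun W x => by
    let z := (kernel.ι π).val.app (op W) x
    have hc : ∑ i, coord i z • (s i).eval (op W) = 0 := by
      have h0 := app_kerι π x
      rw [expand ((kernel.ι π).val.app (op W) x), map_sum] at h0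
      refine Eq.trans (Finset.sum_congr rfl fun i _ => ?_) h0
      rw [map_smul, app_freeSection]
    refine (hr.gen W _ hc).mono fun V g hg => ?_
    let E : (ι → rO O (op V)) →ₗ[rO O (op V)] (freeM O ι).val.obj (op V) :=
      Fintype.linearCombination (rO O (op V))
        (fun i => (SheafOfModules.freeSection (R := ModSite.ringSh O) i).eval (op V))
    have hE : E (fun i => rsR O g (coord i z)) = (kernel.ι π).val.app (op V) (rsM (kernel π) g x) := by
      refine Eq.trans ?_ (PresheafOfModules.naturality_apply (kernel.ι π).val g.op x).symm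
      conv_rhs => rw [expand ((kernel.ι π).val.app (op W) x), map_sum]
      rw [Fintype.linearCombination_apply]
      refine Finset.sum_congr rfl fun i _ => ?_
      exact ((rsM_smul (M := freeM O ι) g _ _).trans
        (congrArg (_ • ·) (rsM_eval g _))).symm
    have h2 := Submodule.mem_map_of_mem (f := E) hg
    rw [Submodule.map_span, ← Set.range_comp, hE] at h2
    have h3 : (fun l => E fun i => ((r l i).eval (op V) : rO O (op V))) =
        fun l => ((kernel.ι π).val.app (op V)).hom ((k l).eval (op V)) := by
      funext l
      rw [Fintype.linearCombination_apply]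
      exact (hk l (op V)).symm
    change _ ∈ Submodule.span _ (Set.range fun l => E fun i => ((r l i).eval (op V) : rO O (op V))) at h2
    rw [h3, show (Set.range fun l => ((kernel.ι π).val.app (op V)).hom ((k l).eval (op V))) =
      ((kernel.ι π).val.app (op V)).hom '' Set.range (fun l => (k l).eval (op V)) from
        Set.range_comp _ _, ← Submodule.map_span] at h2
    obtain ⟨y, hy, hyx⟩ := h2
    have := app_injective (kernel.ι π) (op V) hyx
    exact this ▸ hy
  exact ⟨⟨hs.generatingSections, hgen.generatingSections⟩,
    { isFiniteType_generators := ⟨inferInstanceAs (Finite ι)⟩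
      isFiniteType_relations := ⟨inferInstanceAs (Finite κ)⟩ }⟩

end Rel

end Groth.Agent.RngSp
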