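import Groth.Agent.RngSp.Maps
import Mathlib.LinearAlgebra.Matrix.ToLin
import Mathlib.RingTheory.LocalRing.Module
import Mathlib.LinearAlgebra.Matrix.NonsingularInverse

/-!
# Bases of modules over opens of ringed spaces
-/

set_option autoImplicit false
set_option backward.isDefEq.respectTransparency false
set_option backward.isDefEq.respectTransparency.types false

universe u

open CategoryTheory CategoryTheory.Limits Opposite TopologicalSpace
open Groth.Agent.ClosedRinged Groth.Agent.ModPull
open scoped Matrix

noncomputable section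

namespace Groth.Agent.RngSp

variable {X : TopCat.{u}} {O : TopCat.Sheaf CommRingCat.{u} X} {M N : ModSite.Mod O}

variable (M) in
/-- Sections forming a basis of a module over an open. -/
structure IsBasisOn (U : Opens X) {ι : Type u} [Fintype ι] (t : ι → M.val.obj (op U)) : Prop where
  gen : GenOn M U t
  indep : ∀ (V : Opens X) (h : V ≤ U) (c : ι → fns O V), ∑ i, c i • res M h (t i) = 0 → c = 0

theorem IsBasisOn.mono {U V : Opens X} {ι : Type u} [Fintype ι] {t : ι → M.val.obj (op U)}
    (h : IsBasisOn M U t) (hV : V ≤ U) : IsBasisOn M V (fun i => res M hV (t i)) :=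
  ⟨h.gen.mono hV, fun W hW c hc => h.indep W (hW.trans hV) c (by simpa only [res_res] using hc)⟩

theorem nonempty_iso_free {U : Opens X} {ι : Type u} [Fintype ι] {t : ι → M.val.obj (op U)}
    (h : IsBasisOn M U t) : Nonempty ((ModSite.restr O U).obj M ≅ SheafOfModules.free ι) := by
  classical
  let π := ((ModSite.restr O U).obj M).freeHomEquiv.symm fun i => secOver (t i)
  haveI : Epi π := epi_of_gens _ ((gens_secOver_iff t).2 h.gen)
  haveI : Mono π := mono_of_app_eq_zero π fun A z hz => by
    have h0 : π.val.app (op A) z = 0 := hz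
    rw [expand z, map_sum] at h0
    have hc : (fun i => (coord (O := O.over U) i z : fns O A.left)) = 0 := by
      refine h.indep A.left A.hom.le _ (Eq.trans (Finset.sum_congr rfl fun i _ => ?_) h0)
      rw [map_smul, app_freeSection]
      rfl
    rw [expand z]
    exact Finset.sum_eq_zero fun i _ => by
      rw [show coord (O := O.over U) i z = 0 from congrFun hc i, zero_smul]
  haveI : IsIso π := isIso_of_mono_of_epi π
  exact ⟨(asIso π).symm⟩

theorem exists_basis_of_iso {U : Opens X} {ι : Type u} [Fintype ι]
    (e : (ModSite.restr O U).obj M ≅ SheafOfModules.free ι) : ∃ t : ι → M.val.obj (op U), IsBasisOn M U t := by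
  classical
  let s : ι → ((ModSite.restr O U).obj M).sections := fun i =>
    SheafOfModules.sectionsMap e.inv (SheafOfModules.freeSection i)
  have he : Epi (((ModSite.restr O U).obj M).freeHomEquiv.symm s) := by
    have : ((ModSite.restr O U).obj M).freeHomEquiv.symm s = e.inv := by
      rw [Equiv.symm_apply_eq]
      funext i
      exact (SheafOfModules.freeHomEquiv_apply e.inv i).symm
    rw [this]
    infer_instance
  have hs : (fun i => secOver (M := M) ((s i).eval (op (Over.mk (𝟙 U))))) = s := funext fun i =>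
    PresheafOfModules.sections_ext _ _ fun A => (sections_eval (s i) A.unop).symm
  refine ⟨fun i => (s i).eval (op (Over.mk (𝟙 U))), ?_, fun V hV c hc => ?_⟩
  · rw [← gens_secOver_iff, hs]
    exact gens_of_epi s he
  · let A : Over U := Over.mk (homOfLE hV)
    let c' : ι → rO (O.over U) (op A) := c
    have h0 : ∑ i, c' i • (s i).eval (op A) = (0 : ((ModSite.restr O U).obj M).val.obj (op A)) := by
      refine Eq.trans (Finset.sum_congr rfl fun i _ => ?_) hc
      exact congrArg (c' i • ·) (sections_eval (s i) A)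
    have h1 := congrArg (e.hom.val.app (op A)) h0
    rw [map_sum, map_zero] at h1
    funext j
    have h2 := congrArg (coord (O := O.over U) j) h1
    rw [map_sum, map_zero] at h2
    refine Eq.trans ?_ h2
    rw [Finset.sum_eq_single j]
    · rw [map_smul, map_smul]
      have : e.hom.val.app (op A) ((s j).eval (op A)) =
          (SheafOfModules.freeSection (R := ModSite.ringSh (O.over U)) j).eval (op A) :=
        congrArg (fun k : SheafOfModules.free (R := ModSite.ringSh (O.over U)) ι ⟶ _ =>
          k.val.app (op A) ((SheafOfModules.freeSection (R := ModSite.ringSh (O.over U)) j).eval (op A)))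
          e.inv_hom_id
      rw [this, coord_freeSection, if_pos rfl]
      exact (mul_one _).symm
    · intro i _ hi
      rw [map_smul, map_smul]
      have : e.hom.val.app (op A) ((s i).eval (op A)) =
          (SheafOfModules.freeSection (R := ModSite.ringSh (O.over U)) i).eval (op A) :=
        congrArg (fun k : SheafOfModules.free (R := ModSite.ringSh (O.over U)) ι ⟶ _ =>
          k.val.app (op A) ((SheafOfModules.freeSection (R := ModSite.ringSh (O.over U)) i).eval (op A)))
          e.inv_hom_id
      rw [this, coord_freeSection, if_neg hi, smul_zero]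
    · simp

/-- Linear combinations. -/
def comb {U : Opens X} {ι : Type*} [Fintype ι] (c : ι → fns O U) (t : ι → M.val.obj (op U)) :
    M.val.obj (op U) :=
  ∑ i, c i • t i

theorem comb_vecMul {U : Opens X} {ι κ : Type*} [Fintype ι] [Fintype κ] (c : κ → fns O U)
    (A : Matrix κ ι (fns O U)) (t : ι → M.val.obj (op U)) :
    comb (c ᵥ* A) t = comb c (fun a => comb (A a) t) := by
  simp only [comb, Matrix.vecMul, dotProduct, Finset.sum_smul, Finset.smul_sum, mul_smul]
  exact Finset.sum_comm

theorem res_comb' {U V : Opens X} (h : V ≤ U) {ι : Type*} [Fintype ι] (c : ι → fns O U)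
    (t : ι → M.val.obj (op U)) : res M h (comb c t) = comb (fun i => resO O h (c i)) (fun i => res M h (t i)) :=
  res_comb h c t

theorem mp_comb (f : M ⟶ N) {U : Opens X} {ι : Type*} [Fintype ι] (c : ι → fns O U) (t : ι → M.val.obj (op U)) :
    mp f U (comb c t) = comb c (fun i => mp f U (t i)) := by
  simp only [comb, map_sum, map_smul]

theorem comb_one {U : Opens X} {ι : Type*} [Fintype ι] [DecidableEq ι] (i : ι) (t : ι → M.val.obj (op U)) :
    comb ((1 : Matrix ι ι (fns O U)) i) t = t i := by
  rw [comb, Finset.sum_eq_single i]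
  · rw [Matrix.one_apply_eq, one_smul]
  · intro j _ hj; rw [Matrix.one_apply_ne' hj, zero_smul]
  · simp

/-- Rows of a matrix are unique in a basis. -/
theorem IsBasisOn.eq_of_comb_eq {U : Opens X} {ι : Type u} [Fintype ι] {t : ι → M.val.obj (op U)}
    (h : IsBasisOn M U t) {c d : ι → fns O U} (he : comb c t = comb d t) : c = d := by
  rw [← sub_eq_zero]
  refine h.indep U le_rfl _ ?_
  simp only [res_self, Pi.sub_apply, sub_smul, Finset.sum_sub_distrib]
  exact sub_eq_zero.2 he

theorem mul_eq_one_comm' {U : Opens X} {ι : Type*} [Fintype ι] [DecidableEq ι] {A B : Matrix ι ι (fns O U)}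
    (h : A * B = 1) : B * A = 1 :=
  (mul_eq_one_comm (M := Matrix ι ι (O.obj.obj (op U) : CommRingCat.{u}))).1 h

/-- The value of a function at a point, in the stalk. -/
def evalRing {U : Opens X} {x : X} (hx : x ∈ U) : fns O U →+* O.presheaf.stalk x :=
  (O.presheaf.germ U x hx).hom

theorem evalRing_resO {U V : Opens X} (h : V ≤ U) {x : X} (hx : x ∈ V) (a : fns O U) :
    evalRing hx (resO O h a) = evalRing (h hx) a :=
  TopCat.Presheaf.germ_res_apply O.presheaf (homOfLE h) x hx a

theorem exists_evalRing {x : X} (r : O.presheaf.stalk x) :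
    ∃ (U : Opens X) (hx : x ∈ U) (a : fns O U), evalRing hx a = r := by
  obtain ⟨U, hx, a, rfl⟩ := O.presheaf.germ_exist r
  exact ⟨U, hx, a, rfl⟩

theorem exists_res_eq_of_evalRing {U : Opens X} {x : X} (hx : x ∈ U) {a b : fns O U}
    (h : evalRing hx a = evalRing hx b) :
    ∃ (V : Opens X) (hV : V ≤ U), x ∈ V ∧ resO O hV a = resO O hV b := by
  obtain ⟨V, hxV, i, j, he⟩ := O.presheaf.germ_eq x hx hx a b h
  refine ⟨V, i.le, hxV, ?_⟩
  rw [Subsingleton.elim j i] at he
  exact he

theorem exists_lift_matrix {U : Opens X} {x : X} (hx : x ∈ U) {ι κ : Type*} [Finite ι] [Finite κ]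
    (A : Matrix ι κ (O.presheaf.stalk x)) :
    ∃ (V : Opens X) (_ : V ≤ U) (hxV : x ∈ V) (B : Matrix ι κ (fns O V)), B.map (evalRing hxV) = A := by
  obtain ⟨V, hV, hxV, hB⟩ := nearby_forall hx
    (P := fun (p : ι × κ) V _ => ∀ hxV : x ∈ V, ∃ b, evalRing hxV b = A p.1 p.2)
    (fun p V V' _ h' hP hxV => ⟨resO O h' (hP (h' hxV)).choose, by rw [evalRing_resO, (hP (h' hxV)).choose_spec]⟩)
    fun p => by
      obtain ⟨W, hW, b, hb⟩ := exists_evalRing (A p.1 p.2)
      refine ⟨U ⊓ W, inf_le_left, ⟨hx, hW⟩, fun h => ⟨resO O inf_le_right b, ?_⟩⟩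
      rw [evalRing_resO, hb]
  choose B hB using fun p => hB p hxV
  exact ⟨V, hV, hxV, fun i j => B (i, j), Matrix.ext fun i j => hB (i, j)⟩

theorem exists_res_matrix_eq {U : Opens X} {x : X} (hx : x ∈ U) {ι κ : Type*} [Finite ι] [Finite κ]
    {A B : Matrix ι κ (fns O U)} (h : A.map (evalRing hx) = B.map (evalRing hx)) :
    ∃ (V : Opens X) (hV : V ≤ U), x ∈ V ∧ A.map (resO O hV) = B.map (resO O hV) := by
  obtain ⟨V, hV, hxV, he⟩ := nearby_forall hx
    (P := fun (p : ι × κ) V hV => resO O hV (A p.1 p.2) = resO O hV (B p.1 p.2))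
    (fun p V V' hV h' hp => by rw [← resO_resO hV h', hp, resO_resO])
    fun p => exists_res_eq_of_evalRing hx (congrFun (congrFun h p.1) p.2)
  exact ⟨V, hV, hxV, Matrix.ext fun i j => he (i, j)⟩

/-- Idempotent matrices over local rings split. -/
theorem exists_split_idempotent {R : Type*} [CommRing R] [IsLocalRing R] {n : Type*} [Fintype n] [DecidableEq n]
    (E : Matrix n n R) (hE : E * E = E) :
    ∃ (r : ℕ) (W : Matrix (Fin r) n R) (Q : Matrix n (Fin r) R), W * Q = 1 ∧ Q * W = E := by
  let f : (n → R) →ₗ[R] (n → R) := Matrix.toLin' E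
  have hf : ∀ v, f (f v) = f v := fun v => by
    rw [← LinearMap.comp_apply, ← Matrix.toLin'_mul, hE]
  let π : (n → R) →ₗ[R] LinearMap.range f := f.rangeRestrict
  have hπ : ∀ p : LinearMap.range f, π p.1 = p := fun p => by
    obtain ⟨v, hv⟩ := p.2
    apply Subtype.ext
    change f p.1 = p.1
    rw [← hv, hf]
  haveI : Module.Projective R (LinearMap.range f) :=
    Module.Projective.of_split (LinearMap.range f).subtype π (LinearMap.ext hπ)
  haveI : Module.Finite R (LinearMap.range f) := Module.Finite.range f
  haveI : Module.Free R (LinearMap.range f) := Module.free_of_flat_of_isLocalRing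
  let e : LinearMap.range f ≃ₗ[R] (Fin (Module.finrank R (LinearMap.range f)) → R) :=
    (Module.finBasis R (LinearMap.range f)).equivFun
  refine ⟨_, LinearMap.toMatrix' (e.toLinearMap ∘ₗ π),
    LinearMap.toMatrix' ((LinearMap.range f).subtype ∘ₗ e.symm.toLinearMap), ?_, ?_⟩
  · rw [← LinearMap.toMatrix'_comp, ← LinearMap.toMatrix'_id]
    congr 1
    exact LinearMap.ext fun v => (congrArg e (hπ (e.symm v))).trans (e.apply_symm_apply v)
  · rw [← LinearMap.toMatrix'_comp]
    refine Eq.trans (congrArg _ ?_) (LinearMap.toMatrix'_toLin' E)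
    exact LinearMap.ext fun v => congrArg Subtype.val (e.symm_apply_apply (π v))

end Groth.Agent.RngSp
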