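import Groth.Agent.RngSp.Opens
import Groth.Prelude.Def_ModSite2
import Mathlib.Topology.Sheaves.Points

/-!
# Maps of modules on ringed spaces, sectionwise
-/

set_option autoImplicit false
set_option backward.isDefEq.respectTransparency false
set_option backward.isDefEq.respectTransparency.types false

universe u

open CategoryTheory CategoryTheory.Limits Opposite TopologicalSpace
open Groth.Agent.ClosedRinged Groth.Agent.ModPull

noncomputable section

namespace Groth.Agent.RngSp

variable {X : TopCat.{u}} {O : TopCat.Sheaf CommRingCat.{u} X} {M N : ModSite.Mod O}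

/-- A map on sections over an open. -/
abbrev mp (f : M ⟶ N) (U : Opens X) : M.val.obj (op U) →ₗ[fns O U] N.val.obj (op U) := (f.val.app (op U)).hom

theorem mp_res (f : M ⟶ N) {U V : Opens X} (h : V ≤ U) (z : M.val.obj (op U)) :
    mp f V (res M h z) = res N h (mp f U z) :=
  PresheafOfModules.naturality_apply f.val (homOfLE h).op z

theorem nearby_of_locally_opens {U : Opens X} {P : ∀ ⦃V : Opens X⦄, (V ⟶ U) → Prop}
    (h : Locally (Opens.grothendieckTopology X) U P) : Nearby U (fun V hV => P (homOfLE hV)) := by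
  obtain ⟨S, hS, hP⟩ := h
  intro x hx
  obtain ⟨V, g, hg, hxV⟩ := hS x hx
  exact ⟨V, g.le, hxV, hP _ hg⟩

theorem exists_mp_eq (f : M ⟶ N) [Epi f] {U : Opens X} (z : N.val.obj (op U)) :
    Nearby U fun V h => ∃ m : M.val.obj (op V), mp f V m = res N h z :=
  nearby_of_locally_opens (locally_exists_app_eq f z)

theorem epi_of_surjective (f : M ⟶ N)
    (h : ∀ (U : Opens X) (z : N.val.obj (op U)), Nearby U fun V hV => ∃ m, mp f V m = res N hV z) : Epi f := by
  refine ⟨fun {Z} a b e => SheafOfModules.hom_ext (PresheafOfModules.Hom.ext (funext fun U =>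
    ModuleCat.hom_ext (LinearMap.ext fun z => ClosedRinged.ext_locally Z _ _ fun x hx => ?_)))⟩
  obtain ⟨V, hV, hxV, m, hm⟩ := h U.unop z x hx
  refine ⟨V, hV, hxV, ?_⟩
  refine (mp_res a hV z).symm.trans ((congrArg (mp a V) hm.symm).trans ?_)
  refine Eq.trans ?_ ((congrArg (mp b V) hm).trans (mp_res b hV z))
  exact congrArg (fun k : M ⟶ Z => mp k V m) e

theorem epi_restr (f : M ⟶ N) (U : Opens X)
    (h : ∀ (V : Opens X) (_ : V ≤ U) (z : N.val.obj (op V)),
      Nearby V fun W hW => ∃ m, mp f W m = res N hW z) : Epi ((ModSite.restr O U).map f) := by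
  refine ⟨fun {Z} a b e => SheafOfModules.hom_ext (PresheafOfModules.Hom.ext (funext fun A =>
    ModuleCat.hom_ext (LinearMap.ext fun z => eq_of_locally' Z (locally_of_nearby fun x hx => ?_))))⟩
  obtain ⟨V, hV, hxV, m, hm⟩ := h A.unop.left A.unop.hom.le z x hx
  refine ⟨V, hxV, fun B g hB => ?_⟩
  have hm' : mp f B.left (res M hB m) = res N g.left.le z := by rw [mp_res, hm, res_res]
  refine (PresheafOfModules.naturality_apply a.val g.op z).symm.trans ?_
  refine Eq.trans ?_ (PresheafOfModules.naturality_apply b.val g.op z)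
  refine (congrArg (fun t => a.val.app (op B) t) hm'.symm).trans ?_
  refine Eq.trans ?_ (congrArg (fun t => b.val.app (op B) t) hm')
  exact congrArg (fun k : (ModSite.restr O U).obj M ⟶ Z => k.val.app (op B) (res M hB m)) e

theorem exists_of_shortExact {S : ShortComplex (ModSite.Mod O)} (hS : S.ShortExact) {U : Opens X}
    (y : S.X₂.val.obj (op U)) (h : mp S.g U y = 0) : ∃ a, mp S.f U a = y :=
  exists_app_eq_of_exact hS y h

theorem nearby_forall {ι : Type*} [Finite ι] {U : Opens X} {x : X} (hx : x ∈ U)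
    {P : ι → ∀ V : Opens X, V ≤ U → Prop}
    (hmono : ∀ i V V' (h : V ≤ U) (h' : V' ≤ V), P i V h → P i V' (h'.trans h))
    (h : ∀ i, ∃ (V : Opens X) (hV : V ≤ U), x ∈ V ∧ P i V hV) :
    ∃ (V : Opens X) (hV : V ≤ U), x ∈ V ∧ ∀ i, P i V hV := by
  haveI := Fintype.ofFinite ι
  choose V hV hxV hP using h
  refine ⟨U ⊓ Finset.univ.inf V, inf_le_left, ⟨hx, ?_⟩, fun i => ?_⟩
  · show x ∈ ((Finset.univ.inf V : Opens X) : Set X)
    simp [TopologicalSpace.Opens.coe_finset_inf, hxV]
  · exact hmono i (V i) _ (hV i) (inf_le_right.trans (Finset.inf_le (Finset.mem_univ i))) (hP i)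

/-- Lift finitely many sections through a locally surjective map. -/
theorem exists_lifts {ι : Type*} [Finite ι] (f : M ⟶ N) {U : Opens X} {x : X} (hx : x ∈ U)
    (t : ι → N.val.obj (op U))
    (h : ∀ i, ∃ (V : Opens X) (hV : V ≤ U), x ∈ V ∧ ∃ m, mp f V m = res N hV (t i)) :
    ∃ (V : Opens X) (hV : V ≤ U) (m : ι → M.val.obj (op V)), x ∈ V ∧ ∀ i, mp f V (m i) = res N hV (t i) := by
  obtain ⟨V, hV, hxV, hm⟩ := nearby_forall hx (P := fun i V hV => ∃ m, mp f V m = res N hV (t i))
    (fun i V V' h h' ⟨m, hm⟩ => ⟨res M h' m, by rw [mp_res, hm, res_res]⟩) h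
  choose m hm using hm
  exact ⟨V, hV, m, hxV, hm⟩

/-- A section locally written in terms of generators. -/
theorem GenOn.exists_sum {U : Opens X} {ι : Type u} [Fintype ι] {t : ι → M.val.obj (op U)} (h : GenOn M U t)
    {V : Opens X} (hV : V ≤ U) (z : M.val.obj (op V)) :
    Nearby V fun W hW => ∃ c : ι → fns O W, ∑ i, c i • res M (hW.trans hV) (t i) = res M hW z :=
  fun x hx => by
    obtain ⟨W, hW, hxW, hz⟩ := h V hV z x hx
    exact ⟨W, hW, hxW, (Submodule.mem_span_range_iff_exists_fun _).1 hz⟩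

/-- A family generates if it does so on all germs. -/
theorem genOn_of_exists_sum {U : Opens X} {ι : Type u} [Fintype ι] {t : ι → M.val.obj (op U)}
    (h : ∀ (V : Opens X) (hV : V ≤ U) (z : M.val.obj (op V)), Nearby V fun W hW =>
      ∃ c : ι → fns O W, ∑ i, c i • res M (hW.trans hV) (t i) = res M hW z) : GenOn M U t :=
  fun V hV z x hx => by
    obtain ⟨W, hW, hxW, hz⟩ := h V hV z x hx
    exact ⟨W, hW, hxW, (Submodule.mem_span_range_iff_exists_fun _).2 hz⟩

theorem res_comb {ι : Type*} [Fintype ι] {U V : Opens X} (h : V ≤ U) (c : ι → fns O U)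
    (t : ι → M.val.obj (op U)) : res M h (∑ i, c i • t i) = ∑ i, resO O h (c i) • res M h (t i) := by
  simp only [res_sum, res_smul]

theorem res_sub {U V : Opens X} (h : V ≤ U) (s t : M.val.obj (op U)) :
    res M h (s - t) = res M h s - res M h t :=
  map_sub (M.val.map (homOfLE h).op).hom s t

/-- A family spanning a generating family locally generates. -/
theorem GenOn.of_span {U : Opens X} {ι κ : Type u} [Fintype ι] [Fintype κ] {t : ι → M.val.obj (op U)}
    (h : GenOn M U t) {V : Opens X} (hV : V ≤ U) (w : κ → M.val.obj (op V))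
    (hw : ∀ i, res M hV (t i) ∈ Submodule.span (fns O V) (Set.range w)) : GenOn M V w :=
  fun W hW z x hx => by
    obtain ⟨W', hW', hxW', hz⟩ := h W (hW.trans hV) z x hx
    refine ⟨W', hW', hxW', ?_⟩
    refine Submodule.span_le.2 ?_ hz
    rintro _ ⟨i, rfl⟩
    have := res_mem_span (hW'.trans hW) _ _ (hw i)
    rwa [res_res] at this

theorem exists_of_cokernel (φ : M ⟶ N) {U : Opens X} (z : N.val.obj (op U))
    (h : mp (cokernel.π φ) U z = 0) : Nearby U fun V hV => ∃ m, mp φ V m = res N hV z := by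
  obtain ⟨w, hw⟩ := exists_of_shortExact (shortExact_ker (cokernel.π φ)) z h
  intro x hx
  obtain ⟨V, hV, hxV, m, hm⟩ := exists_mp_eq (Abelian.factorThruImage φ) (U := U) w x hx
  refine ⟨V, hV, hxV, m, ?_⟩
  rw [← hw, ← mp_res]
  refine Eq.trans ?_ (congrArg (mp (kernel.ι (cokernel.π φ)) V) hm)
  exact congrArg (fun k : M ⟶ N => mp k V m) (Abelian.image.fac φ).symm

theorem mp_cokernel_π (φ : M ⟶ N) {U : Opens X} (m : M.val.obj (op U)) :
    mp (cokernel.π φ) U (mp φ U m) = 0 :=
  show mp (φ ≫ cokernel.π φ) U m = 0 by rw [cokernel.condition]; rfl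

section Stalk

/-- The point of a ringed space. -/
abbrev pt (x : X) : GrothendieckTopology.Point.{u} (Opens.grothendieckTopology X) :=
  Opens.pointGrothendieckTopology x

/-- The germ of a section. -/
abbrev gm (M : ModSite.Mod O) {U : Opens X} {x : X} (hx : x ∈ U) (z : M.val.obj (op U)) :
    ModSite.stalkAb (pt x) M :=
  ModSite.germ (pt x) M U ⟨⟨hx⟩⟩ z

theorem stalkMap_gm (f : M ⟶ N) {U : Opens X} {x : X} (hx : x ∈ U) (z : M.val.obj (op U)) :
    (ModSite.stalkMap (pt x) f).hom (gm M hx z) = gm N hx (mp f U z) :=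
  ConcreteCategory.congr_hom ((pt x).toPresheafFiber_naturality
    ((SheafOfModules.toSheaf (ModSite.ringSh O)).map f).hom U ⟨⟨hx⟩⟩) z

theorem exists_gm {x : X} (s : ModSite.stalkAb (pt x) M) :
    ∃ (U : Opens X) (hx : x ∈ U) (z : M.val.obj (op U)), gm M hx z = s := by
  obtain ⟨U, h, z, rfl⟩ := (pt x).toPresheafFiber_jointly_surjective (P := (ModSite.toAb M).obj) s
  exact ⟨U, h.down.down, z, rfl⟩

theorem gm_res {U V : Opens X} {x : X} (h : V ≤ U) (hx : x ∈ V) (z : M.val.obj (op U)) :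
    gm M hx (res M h z) = gm M (h hx) z :=
  ConcreteCategory.congr_hom ((pt x).toPresheafFiber_w (homOfLE h) ⟨⟨hx⟩⟩ (ModSite.toAb M).obj) z

theorem gm_eq_iff {U : Opens X} {x : X} (hx : x ∈ U) (z z' : M.val.obj (op U)) :
    gm M hx z = gm M hx z' ↔ ∃ (V : Opens X) (h : V ≤ U), x ∈ V ∧ res M h z = res M h z' := by
  constructor
  · intro h
    obtain ⟨V, g, hy, -, he⟩ := ((pt x).toPresheafFiber_eq_iff' (P := (ModSite.toAb M).obj) U ⟨⟨hx⟩⟩ z z').1 h
    exact ⟨V, g.le, hy.down.down, he⟩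
  · rintro ⟨V, h, hxV, he⟩
    rw [← gm_res h hxV z, he, gm_res]

theorem exists_lift_of_stalk (f : M ⟶ N) {U : Opens X} {x : X} (hx : x ∈ U) (z : N.val.obj (op U))
    (h : gm N hx z ∈ Set.range (ModSite.stalkMap (pt x) f).hom) :
    ∃ (V : Opens X) (hV : V ≤ U), x ∈ V ∧ ∃ m, mp f V m = res N hV z := by
  obtain ⟨s, hs⟩ := h
  obtain ⟨W, hW, m, rfl⟩ := exists_gm s
  rw [stalkMap_gm] at hs
  have hxWU : x ∈ W ⊓ U := ⟨hW, hx⟩
  rw [← gm_res (inf_le_left : W ⊓ U ≤ W) hxWU, ← gm_res (inf_le_right : W ⊓ U ≤ U) hxWU z, gm_eq_iff] at hs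
  obtain ⟨V, hV, hxV, he⟩ := hs
  refine ⟨V, hV.trans inf_le_right, hxV, res M (hV.trans inf_le_left) m, ?_⟩
  rw [mp_res]
  rw [res_res, res_res] at he
  exact he

end Stalk

end Groth.Agent.RngSp
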