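import Groth.Agent.ModTensor.ProjSheaf
import Groth.Agent.ModTensor.Colimits
import Mathlib.Algebra.Category.ModuleCat.Sheaf.LocallyFree

/-!
# Presentations of tensor products of sheaves of modules
-/

set_option autoImplicit false
set_option backward.isDefEq.respectTransparency false
set_option backward.isDefEq.respectTransparency.types false

universe u

open CategoryTheory CategoryTheory.Limits Opposite
open Groth.Agent.ModTensor

noncomputable section

namespace Groth.Agent.RngSp

variable {C : Type u} [SmallCategory C] {J : GrothendieckTopology C} (O : Sheaf J CommRingCat.{u})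

/-- The tensor product. -/
abbrev tns (M N : ModSite.Mod O) : ModSite.Mod O := ((ModSite.tensorBi O).obj M).obj N

variable {O}

/-- The tensor product of two morphisms. -/
abbrev tnsMap {M M' N N' : ModSite.Mod O} (f : M ⟶ M') (g : N ⟶ N') : tns O M N ⟶ tns O M' N' :=
  ((ModSite.tensorBi O).obj M).map g ≫ ((ModSite.tensorBi O).map f).app N'

variable (O) in
/-- Free modules. -/
abbrev frM (a : Type u) : ModSite.Mod O := SheafOfModules.free (R := ModSite.ringSh O) a

/-- The right unit of the tensor product. -/
def tnsUnitIso (M : ModSite.Mod O) : tns O M (ModSite.unit O) ≅ M :=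
  (((tensorFlipIso O).app M).app (ModSite.unit O)).symm ≪≫ (unitTensorIso O).app M

theorem preservesColimits_tns (M : ModSite.Mod O) :
    PreservesColimitsOfSize.{u, u} ((ModSite.tensorBi O).obj M) := inferInstance

/-- The tensor product of free modules. -/
def freeTnsIso (a b : Type u) : frM O (a × b) ≅ tns O (frM O a) (frM O b) :=
  haveI : HasColimitsOfShape (Discrete a) (ModSite.Mod O) := inferInstance
  haveI : HasColimitsOfShape (Discrete b) (ModSite.Mod O) := inferInstance
  haveI : ∀ _ : b, HasCoproduct fun _ : a => (SheafOfModules.unit (ModSite.ringSh O) : ModSite.Mod O) :=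
    fun _ => inferInstance
  Sigma.whiskerEquiv (f := fun _ : a × b => SheafOfModules.unit (ModSite.ringSh O))
      (g := fun _ : (_ : b) × a => SheafOfModules.unit (ModSite.ringSh O))
      ((Equiv.prodComm a b).trans (Equiv.sigmaEquivProd b a).symm) (fun _ => Iso.refl _) ≪≫
    (sigmaSigmaIso (C := ModSite.Mod O) (ι := b) (f := fun _ : b => a)
      (fun (_ : b) (_ : a) => (SheafOfModules.unit (ModSite.ringSh O) : ModSite.Mod O))).symm ≪≫
    Sigma.mapIso (fun _ : b => (tnsUnitIso (frM O a)).symm) ≪≫
    (PreservesCoproduct.iso ((ModSite.tensorBi O).obj (frM O a))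
      (fun _ : b => SheafOfModules.unit (ModSite.ringSh O))).symm

section

variable {M N A B A' B' : ModSite.Mod O} (f : A ⟶ B) (g : B ⟶ M) (wf : f ≫ g = 0)
  (hf : IsColimit (CokernelCofork.ofπ g wf)) (f' : A' ⟶ B') (g' : B' ⟶ N) (wf' : f' ≫ g' = 0)
  (hf' : IsColimit (CokernelCofork.ofπ g' wf'))

/-- The relations of a tensor product. -/
abbrev tnsRel : tns O A B' ⨿ tns O B A' ⟶ tns O B B' :=
  coprod.desc (((ModSite.tensorBi O).map f).app B') (((ModSite.tensorBi O).obj B).map f')

theorem preservesColimit_pair (F : ModSite.Mod O ⥤ ModSite.Mod O) [PreservesColimitsOfSize.{u, u} F]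
    {P Q : ModSite.Mod O} (h : P ⟶ Q) : PreservesColimit (parallelPair h 0) F :=
  haveI : PreservesColimitsOfSize.{0, 0} F := preservesColimitsOfSize_shrink _
  inferInstance

include wf wf' in
theorem tnsRel_comp : tnsRel f f' ≫ tnsMap g g' = 0 := by
  haveI : ((ModSite.tensorBi O).flip.obj N).Additive := additive_tensorBi_flip O N
  apply coprod.hom_ext
  · rw [coprod.inl_desc_assoc, comp_zero]
    change ((ModSite.tensorBi O).map f).app B' ≫ ((ModSite.tensorBi O).obj B).map g' ≫ _ = 0
    rw [← NatTrans.naturality_assoc, ← NatTrans.comp_app, ← Functor.map_comp, wf]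
    change _ ≫ ((ModSite.tensorBi O).flip.obj N).map 0 = 0
    rw [Functor.map_zero, comp_zero]
  · rw [coprod.inr_desc_assoc, comp_zero]
    change ((ModSite.tensorBi O).obj B).map f' ≫ ((ModSite.tensorBi O).obj B).map g' ≫ _ = 0
    haveI : ((ModSite.tensorBi O).obj B).Additive := Functor.additive_of_iso ((tensorFlipIso O).app B)
    rw [← Functor.map_comp_assoc, wf', Functor.map_zero, zero_comp]

/-- The tensor product of two cokernels is a cokernel. -/
def isColimitTns : IsColimit (CokernelCofork.ofπ (tnsMap g g') (tnsRel_comp f g wf f' g' wf')) :=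
  haveI := preservesColimit_pair ((ModSite.tensorBi O).flip.obj N) f
  haveI := preservesColimit_pair ((ModSite.tensorBi O).flip.obj A') f
  haveI := preservesColimit_pair ((ModSite.tensorBi O).obj B) f'
  haveI := preservesColimit_pair ((ModSite.tensorBi O).obj A) f'
  haveI : ((ModSite.tensorBi O).flip.obj N).Additive := additive_tensorBi_flip O N
  haveI : ((ModSite.tensorBi O).obj B).Additive := Functor.additive_of_iso ((tensorFlipIso O).app B)
  haveI : ((ModSite.tensorBi O).obj A).Additive := Functor.additive_of_iso ((tensorFlipIso O).app A)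
  haveI : Epi g' := ⟨fun a b e => Cofork.IsColimit.hom_ext hf' (by simpa using e)⟩
  haveI : Epi g := ⟨fun a b e => Cofork.IsColimit.hom_ext hf (by simpa using e)⟩
  haveI hA : Epi (((ModSite.tensorBi O).obj A).map g') := by
    have h := CokernelCofork.mapIsColimit _ hf' ((ModSite.tensorBi O).obj A)
    exact ⟨fun a b e => Cofork.IsColimit.hom_ext h (by simpa using e)⟩
  let h1 := CokernelCofork.mapIsColimit _ hf' ((ModSite.tensorBi O).obj B)
  let h2 := CokernelCofork.mapIsColimit _ hf ((ModSite.tensorBi O).flip.obj N)
  haveI hB : Epi (((ModSite.tensorBi O).obj B).map g') :=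
    ⟨fun a b e => Cofork.IsColimit.hom_ext h1 (by simpa using e)⟩
  haveI hN : Epi (((ModSite.tensorBi O).map g).app N) :=
    ⟨fun a b e => Cofork.IsColimit.hom_ext h2 (by simpa using e)⟩
  haveI : Epi (tnsMap g g') := epi_comp _ _
  CokernelCofork.IsColimit.ofπ' _ _ fun {Z} k hk => by
    have hk₁ : ((ModSite.tensorBi O).map f).app B' ≫ k = 0 := by
      have := congrArg (fun t => coprod.inl ≫ t) hk
      simpa using this
    have hk₂ : ((ModSite.tensorBi O).obj B).map f' ≫ k = 0 := by
      have := congrArg (fun t => coprod.inr ≫ t) hk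
      simpa using this
    refine ⟨h2.desc (CokernelCofork.ofπ (h1.desc (CokernelCofork.ofπ k hk₂)) ?_), ?_⟩
    · apply hA.left_cancellation
      rw [comp_zero]
      change ((ModSite.tensorBi O).obj A).map g' ≫ ((ModSite.tensorBi O).map f).app N ≫ _ = 0
      rw [NatTrans.naturality_assoc]
      refine Eq.trans (congrArg (fun t => ((ModSite.tensorBi O).map f).app B' ≫ t) ?_) hk₁
      exact h1.fac (CokernelCofork.ofπ k hk₂) WalkingParallelPair.one
    · change ((((ModSite.tensorBi O).obj B).map g') ≫ ((ModSite.tensorBi O).map g).app N) ≫ _ = k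
      rw [Category.assoc]
      refine Eq.trans (congrArg (fun t => ((ModSite.tensorBi O).obj B).map g' ≫ t)
        (h2.fac _ WalkingParallelPair.one)) ?_
      exact h1.fac (CokernelCofork.ofπ k hk₂) WalkingParallelPair.one

end

variable {M N : ModSite.Mod O} (P : M.Presentation) (Q : N.Presentation)

/-- The presentation of a tensor product. -/
def tnsPresentation : (tns O M N).Presentation :=
  let s : frM O ((P.relations.I × Q.generators.I) ⊕ (P.generators.I × Q.relations.I)) ⟶
      tns O (frM O P.relations.I) (frM O Q.generators.I) ⨿ tns O (frM O P.generators.I) (frM O Q.relations.I) :=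
    (SheafOfModules.freeSumIso _ _).inv ≫ coprod.map (freeTnsIso _ _).hom (freeTnsIso _ _).hom
  haveI : IsIso s := by dsimp only [s]; infer_instance
  let f := (SheafOfModules.freeHomEquiv _).symm P.relations.s ≫ kernel.ι P.generators.π
  let f' := (SheafOfModules.freeHomEquiv _).symm Q.relations.s ≫ kernel.ι Q.generators.π
  let c := isColimitTns f P.generators.π (by simp [f]) P.isColimit f' Q.generators.π (by simp [f']) Q.isColimit
  let e := freeTnsIso (O := O) P.generators.I Q.generators.I
  SheafOfModules.presentationOfIsCokernelFree (s ≫ tnsRel f f' ≫ e.inv) (e.hom ≫ tnsMap P.generators.π Q.generators.π)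
    (by simp only [Category.assoc, Iso.inv_hom_id_assoc]
        rw [tnsRel_comp f P.generators.π (by simp [f]) f' Q.generators.π (by simp [f']), comp_zero])
    (by
      refine IsColimit.equivOfNatIsoOfIso (parallelPairIsoMk (asIso s).symm e.symm (by simp) (by simp)) _ _ ?_ c
      exact Cofork.ext (Iso.refl _) (by simp [Cofork.π]))

theorem tnsPresentation_isFinite [P.IsFinite] [Q.IsFinite] : (tnsPresentation P Q).IsFinite := by
  haveI : Finite P.generators.I := SheafOfModules.GeneratingSections.IsFiniteType.finite
  haveI : Finite Q.generators.I := SheafOfModules.GeneratingSections.IsFiniteType.finite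
  haveI : Finite P.relations.I := SheafOfModules.GeneratingSections.IsFiniteType.finite
  haveI : Finite Q.relations.I := SheafOfModules.GeneratingSections.IsFiniteType.finite
  exact { isFiniteType_generators := ⟨inferInstanceAs (Finite (P.generators.I × Q.generators.I))⟩
          isFiniteType_relations := ⟨inferInstanceAs
            (Finite ((P.relations.I × Q.generators.I) ⊕ (P.generators.I × Q.relations.I)))⟩ }

/-- The generating sections of a tensor product. -/
def tnsGenerators (σ : M.GeneratingSections) (τ : N.GeneratingSections) : (tns O M N).GeneratingSections where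
  I := σ.I × τ.I
  s := (tns O M N).freeHomEquiv ((freeTnsIso σ.I τ.I).hom ≫ tnsMap σ.π τ.π)
  epi := by
    rw [Equiv.symm_apply_apply]
    haveI : Epi (((ModSite.tensorBi O).obj (frM O σ.I)).map τ.π) := Functor.map_epi _ _
    haveI : Epi (((ModSite.tensorBi O).map σ.π).app N) :=
      (inferInstance : Epi (((ModSite.tensorBi O).flip.obj N).map σ.π))
    infer_instance

theorem tnsGenerators_π (σ : M.GeneratingSections) (τ : N.GeneratingSections) :
    (tnsGenerators σ τ).π = (freeTnsIso σ.I τ.I).hom ≫ tnsMap σ.π τ.π :=
  (tns O M N).freeHomEquiv.symm_apply_apply _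

theorem isIso_tnsGenerators (σ : M.GeneratingSections) (τ : N.GeneratingSections) [IsIso σ.π] [IsIso τ.π] :
    IsIso (tnsGenerators σ τ).π := by
  rw [tnsGenerators_π]
  haveI : IsIso (((ModSite.tensorBi O).obj (frM O σ.I)).map τ.π) := inferInstance
  haveI : IsIso (((ModSite.tensorBi O).map σ.π).app N) := inferInstance
  infer_instance

end Groth.Agent.RngSp
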